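import Mathlib
import Groth.Prelude.Def_QuotSh
import Groth.Prelude.Def_AlgSp
import Groth.Prelude.Def_DescFam
import Groth.Agent.Lib.Helper2.AlgSp.QuotEff
import Groth.Agent.Lib.Helper2.AlgSt.QuotUniv
import Groth.Agent.Lib.Helper2.Desc.AffFam
import Groth.Agent.Lib.Helper2.Desc.Sec

/-!
# An fppf sheaf which is fppf-locally represented by an affine scheme: the descent datum (helper2)
-/

set_option autoImplicit false
set_option synthInstance.maxHeartbeats 400000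
set_option maxHeartbeats 4000000
set_option linter.style.haveILetI false
set_option linter.unusedSectionVars false
set_option linter.unusedVariables false
set_option linter.unusedSimpArgs false
set_option linter.unnecessarySimpa false

namespace Groth.Agent.Helper2.FppfAffRep
open CategoryTheory CategoryTheory.Limits AlgebraicGeometry Opposite AlgSp Desc
open Groth.Agent.Lib.Helper5.DescFam
universe u

variable {S S' : Scheme.{u}} (f : S' ⟶ S) (Z : AlgSp.Sp S) (P : Over S) (a : P ⟶ Over.mk f)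
  (φ : (yon S).obj P ≅ Z ⨯ (yon S).obj (Over.mk f))

/-- the morphism over `S` given by a point of `P` over `x` -/
def liftHom {T : Scheme.{u}} (x : T ⟶ S') (g : T ⟶ S) (hg : x ≫ f = g)
    (v : Lifts (Over.mk a.left) x) : Over.mk g ⟶ P :=
  Over.homMk v.1 (by
    have h1 : a.left ≫ f = P.hom := Over.w a
    have h2 : v.1 ≫ a.left = x := v.2
    show v.1 ≫ P.hom = g
    rw [← h1, ← Category.assoc, h2, hg])

def xHom {T : Scheme.{u}} (x : T ⟶ S') (g : T ⟶ S) (hg : x ≫ f = g) : Over.mk g ⟶ Over.mk f :=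
  Over.homMk x hg

lemma liftHom_comp {T : Scheme.{u}} (x : T ⟶ S') (g : T ⟶ S) (hg : x ≫ f = g)
    (v : Lifts (Over.mk a.left) x) : liftHom f P a x g hg v ≫ a = xHom f x g hg := by
  apply Over.OverMorphism.ext
  exact v.2

noncomputable def betaFun {T : Scheme.{u}} (x : T ⟶ S') (g : T ⟶ S) (hg : x ≫ f = g)
    (v : Lifts (Over.mk a.left) x) : (yon S).obj (Over.mk g) ⟶ Z :=
  (yon S).map (liftHom f P a x g hg v) ≫ φ.hom ≫ prod.fst

noncomputable def betaInvHom {T : Scheme.{u}} (x : T ⟶ S') (g : T ⟶ S) (hg : x ≫ f = g)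
    (ζ : (yon S).obj (Over.mk g) ⟶ Z) : Over.mk g ⟶ P :=
  (yon S).preimage (prod.lift ζ ((yon S).map (xHom f x g hg)) ≫ φ.inv)

variable (hφ : φ.hom ≫ prod.snd = (yon S).map a)

include hφ in
lemma betaInvHom_comp {T : Scheme.{u}} (x : T ⟶ S') (g : T ⟶ S) (hg : x ≫ f = g)
    (ζ : (yon S).obj (Over.mk g) ⟶ Z) : betaInvHom f Z P φ x g hg ζ ≫ a = xHom f x g hg := by
  apply (yon S).map_injective
  rw [Functor.map_comp, betaInvHom, Functor.map_preimage, ← hφ, Category.assoc,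
    Iso.inv_hom_id_assoc, prod.lift_snd]

/-- points of `P` over `x` are sections of `Z` over `x ≫ f` -/
noncomputable def beta {T : Scheme.{u}} (x : T ⟶ S') (g : T ⟶ S) (hg : x ≫ f = g) :
    Lifts (Over.mk a.left) x ≃ ((yon S).obj (Over.mk g) ⟶ Z) where
  toFun v := betaFun f Z P a φ x g hg v
  invFun ζ := ⟨(betaInvHom f Z P φ x g hg ζ).left,
    congrArg CommaMorphism.left (betaInvHom_comp f Z P a φ hφ x g hg ζ)⟩
  left_inv v := by
    apply Subtype.ext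
    show (betaInvHom f Z P φ x g hg (betaFun f Z P a φ x g hg v)).left = v.1
    have h1 : betaInvHom f Z P φ x g hg (betaFun f Z P a φ x g hg v) = liftHom f P a x g hg v := by
      apply (yon S).map_injective
      rw [betaInvHom, Functor.map_preimage, Iso.comp_inv_eq]
      apply Limits.prod.hom_ext
      · rw [prod.lift_fst, Category.assoc]
        rfl
      · rw [prod.lift_snd, Category.assoc, hφ, ← Functor.map_comp, liftHom_comp]
    rw [h1]
    rfl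
  right_inv ζ := by
    show betaFun f Z P a φ x g hg ⟨(betaInvHom f Z P φ x g hg ζ).left, _⟩ = ζ
    have h1 : liftHom f P a x g hg ⟨(betaInvHom f Z P φ x g hg ζ).left,
        congrArg CommaMorphism.left (betaInvHom_comp f Z P a φ hφ x g hg ζ)⟩ =
        betaInvHom f Z P φ x g hg ζ := by
      apply Over.OverMorphism.ext
      rfl
    unfold betaFun
    rw [h1, betaInvHom, Functor.map_preimage, Category.assoc, Iso.inv_hom_id_assoc, prod.lift_fst]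

lemma beta_apply {T : Scheme.{u}} (x : T ⟶ S') (g : T ⟶ S) (hg : x ≫ f = g)
    (v : Lifts (Over.mk a.left) x) :
    beta f Z P a φ hφ x g hg v = (yon S).map (liftHom f P a x g hg v) ≫ φ.hom ≫ prod.fst := rfl

lemma beta_nat {T T₂ : Scheme.{u}} (k : T₂ ⟶ T) (x : T ⟶ S') (g : T ⟶ S) (hg : x ≫ f = g)
    (y : T₂ ⟶ S') (g₂ : T₂ ⟶ S) (hg₂ : y ≫ f = g₂) (hgg : k ≫ g = g₂)
    (v : Lifts (Over.mk a.left) x) (v₂ : Lifts (Over.mk a.left) y) (hv : v₂.1 = k ≫ v.1) :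
    beta f Z P a φ hφ y g₂ hg₂ v₂ =
      (yon S).map (Over.homMk k hgg : Over.mk g₂ ⟶ Over.mk g) ≫ beta f Z P a φ hφ x g hg v := by
  have h1 : liftHom f P a y g₂ hg₂ v₂ =
      (Over.homMk k hgg : Over.mk g₂ ⟶ Over.mk g) ≫ liftHom f P a x g hg v := by
    apply Over.OverMorphism.ext
    exact hv
  rw [beta_apply, beta_apply, h1, Functor.map_comp, Category.assoc]

lemma beta_symm_nat {T T₂ : Scheme.{u}} (k : T₂ ⟶ T) (x : T ⟶ S') (g : T ⟶ S) (hg : x ≫ f = g)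
    (y : T₂ ⟶ S') (g₂ : T₂ ⟶ S) (hg₂ : y ≫ f = g₂) (hy : k ≫ x = y) (hgg : k ≫ g = g₂)
    (ζ : (yon S).obj (Over.mk g) ⟶ Z) :
    ((beta f Z P a φ hφ y g₂ hg₂).symm
        ((yon S).map (Over.homMk k hgg : Over.mk g₂ ⟶ Over.mk g) ≫ ζ)).1 =
      k ≫ ((beta f Z P a φ hφ x g hg).symm ζ).1 := by
  have hw : (k ≫ ((beta f Z P a φ hφ x g hg).symm ζ).1) ≫ (Over.mk a.left).hom = y := by
    rw [Category.assoc, ((beta f Z P a φ hφ x g hg).symm ζ).2, hy]
  have h1 := beta_nat f Z P a φ hφ k x g hg y g₂ hg₂ hgg ((beta f Z P a φ hφ x g hg).symm ζ)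
    ⟨k ≫ ((beta f Z P a φ hφ x g hg).symm ζ).1, hw⟩ rfl
  rw [Equiv.apply_symm_apply] at h1
  rw [← h1, Equiv.symm_apply_apply]

lemma beta_congr_g {T : Scheme.{u}} (x : T ⟶ S') (g g' : T ⟶ S) (hg : x ≫ f = g) (hgg : g = g')
    (x₁ : T ⟶ S') (hg₁ : x₁ ≫ f = g) (v : Lifts (Over.mk a.left) x) :
    (beta f Z P a φ hφ x₁ g hg₁).symm (beta f Z P a φ hφ x g hg v) =
      (beta f Z P a φ hφ x₁ g' (hg₁.trans hgg)).symm
        (beta f Z P a φ hφ x g' (hg.trans hgg) v) := by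
  subst hgg
  rfl

/-- the descent datum on `P` relative to `f` -/
noncomputable def dd : SchDDFam (fun _ : PUnit.{u + 1} => f) where
  obj _ := Over.mk a.left
  φ T _ _ x₀ x₁ h :=
    (beta f Z P a φ hφ x₀ (x₀ ≫ f) rfl).trans (beta f Z P a φ hφ x₁ (x₀ ≫ f) h.symm).symm
  φ_natural T T' k _ _ x₀ x₁ h y₀ y₁ hy₀ hy₁ h' v v' hv := by
    have hgg : k ≫ (x₀ ≫ f) = y₀ ≫ f := by rw [← hy₀, Category.assoc]
    have h1 := beta_nat f Z P a φ hφ k x₀ (x₀ ≫ f) rfl y₀ (y₀ ≫ f) rfl hgg v v' hv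
    show ((beta f Z P a φ hφ y₁ (y₀ ≫ f) h'.symm).symm
      (beta f Z P a φ hφ y₀ (y₀ ≫ f) rfl v')).1 = _
    rw [h1]
    exact beta_symm_nat f Z P a φ hφ k x₁ (x₀ ≫ f) h.symm y₁ (y₀ ≫ f) h'.symm hy₁ hgg _
  φ_self T _ x v := by
    show (beta f Z P a φ hφ x (x ≫ f) rfl).symm (beta f Z P a φ hφ x (x ≫ f) rfl v) = v
    exact Equiv.symm_apply_apply _ _
  φ_comp T _ _ _ x₀ x₁ x₂ h₀₁ h₁₂ v := by
    show (beta f Z P a φ hφ x₂ (x₁ ≫ f) h₁₂.symm).symm (beta f Z P a φ hφ x₁ (x₁ ≫ f) rfl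
      ((beta f Z P a φ hφ x₁ (x₀ ≫ f) h₀₁.symm).symm (beta f Z P a φ hφ x₀ (x₀ ≫ f) rfl v))) =
      (beta f Z P a φ hφ x₂ (x₀ ≫ f) (h₀₁.trans h₁₂).symm).symm
        (beta f Z P a φ hφ x₀ (x₀ ≫ f) rfl v)
    rw [beta_congr_g f Z P a φ hφ x₁ (x₁ ≫ f) (x₀ ≫ f) rfl h₀₁.symm x₂ h₁₂.symm,
      Equiv.apply_symm_apply]

lemma dd_φ_eq {T : Scheme.{u}} (x₀ x₁ : T ⟶ S') (h : x₀ ≫ f = x₁ ≫ f) (g : T ⟶ S)
    (hg₀ : x₀ ≫ f = g) (hg₁ : x₁ ≫ f = g) (v : Lifts (Over.mk a.left) x₀) :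
    (dd f Z P a φ hφ).φ (i := ⟨⟩) (j := ⟨⟩) x₀ x₁ h v =
      (beta f Z P a φ hφ x₁ g hg₁).symm (beta f Z P a φ hφ x₀ g hg₀ v) := by
  subst hg₀
  rfl

end Groth.Agent.Helper2.FppfAffRep
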