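import Mathlib
import Groth.Agent.Lib.Helper2.GrpQ.FppfAffRep1

/-!
# An fppf sheaf which is fppf-locally represented by an affine scheme: sections of the sheaf and
morphisms of descent data (helper2)
-/

set_option autoImplicit false
set_option synthInstance.maxHeartbeats 400000
set_option maxHeartbeats 4000000
set_option linter.style.haveILetI false
set_option linter.unusedSectionVars false
set_option linter.unusedVariables false
set_option linter.unusedSimpArgs false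
set_option linter.unnecessarySimpa false

namespace Groth.Agent.Helper2.FppfAffRep
open CategoryTheory CategoryTheory.Limits AlgebraicGeometry Opposite AlgSp Desc
open Groth.Agent.Lib.Helper5.DescFam Groth.Agent.Helper2.DescSec
universe u

variable {S S' : Scheme.{u}}

/-- Sections of a sheaf descend along an fppf morphism. -/
theorem existsUnique_desc_hom {V W : Over S} (p : V ⟶ W) [Flat p.left]
    [LocallyOfFinitePresentation p.left] [Surjective p.left]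
    (Z : AlgSp.Sp S) (ζ : (yon S).obj V ⟶ Z)
    (hζ : ∀ {T₀ : Scheme.{u}} (t₀ : T₀ ⟶ S) (e₁ e₂ : Over.mk t₀ ⟶ V), e₁ ≫ p = e₂ ≫ p →
      (yon S).map e₁ ≫ ζ = (yon S).map e₂ ≫ ζ) :
    ∃! ξ : (yon S).obj W ⟶ Z, (yon S).map p ≫ ξ = ζ := by
  have hloc : NonAbH1.IsLocallyTrivialFor Scheme.fppfPrecoverage
      (Over.mk p.left : Over W.left) := by
    refine ⟨Presieve.ofArrows (fun _ : PUnit.{u + 1} => V.left) (fun _ => p.left), ?_, ?_⟩
    · rw [Scheme.fppfPrecoverage, Scheme.ofArrows_mem_precoverage_iff]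
      exact ⟨fun s => ⟨⟨⟩, p.left.surjective s⟩, fun _ => ⟨inferInstance, inferInstance⟩⟩
    · rintro S₀ g ⟨i⟩
      show ∃ s : V.left ⟶ (Over.mk p.left).left, s ≫ (Over.mk p.left).hom = p.left
      exact ⟨𝟙 _, Category.id_comp _⟩
  have hm : ∀ {T : Over S} (e₁ e₂ : T ⟶ V), e₁ ≫ p = e₂ ≫ p →
      Z.obj.map e₁.op ((J S).uliftYonedaEquiv ζ) = Z.obj.map e₂.op ((J S).uliftYonedaEquiv ζ) := by
    intro T e₁ e₂ h
    rw [(J S).uliftYonedaEquiv_naturality, (J S).uliftYonedaEquiv_naturality]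
    exact congrArg _ (hζ T.hom e₁ e₂ h)
  obtain ⟨m', hm', hu⟩ :=
    QuotUniv.existsUnique_desc_section p hloc Z ((J S).uliftYonedaEquiv ζ) hm
  refine ⟨(J S).uliftYonedaEquiv.symm m', ?_, fun ξ hξ => ?_⟩
  · apply (J S).uliftYonedaEquiv.injective
    rw [← (J S).uliftYonedaEquiv_naturality, Equiv.apply_symm_apply]
    exact hm'
  · rw [Equiv.eq_symm_apply]
    apply hu
    show Z.obj.map p.op ((J S).uliftYonedaEquiv ξ) = _
    rw [(J S).uliftYonedaEquiv_naturality, hξ]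

variable (f : S' ⟶ S) (Z : AlgSp.Sp S) (P : Over S) (a : P ⟶ Over.mk f)
  (φ : (yon S).obj P ≅ Z ⨯ (yon S).obj (Over.mk f))
  (hφ : φ.hom ≫ prod.snd = (yon S).map a)

section Phi

variable {T : Scheme.{u}} (t : T ⟶ S)

/-- the canonical point given by `g'` and `x` -/
noncomputable abbrev cp {T₀ : Scheme.{u}} (g' : T₀ ⟶ T) (x : T₀ ⟶ S') (h : x ≫ f = g' ≫ t) :
    Lifts (((toDDFam (fun _ : PUnit.{u + 1} => f)).obj (Over.mk t)).obj PUnit.unit) x :=
  cpt (X := fun _ : PUnit.{u + 1} => S') (f := fun _ : PUnit.{u + 1} => f) (i := PUnit.unit)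
    t g' x h

variable (α : (toDDFam (fun _ : PUnit.{u + 1} => f)).obj (Over.mk t) ⟶ dd f Z P a φ hφ)

/-- the section of `Z` attached by `α` to the point `(g', x)` of the canonical datum -/
noncomputable def zetaAt {T₀ : Scheme.{u}} (g' : T₀ ⟶ T) (x : T₀ ⟶ S') (g₀ : T₀ ⟶ S)
    (h : x ≫ f = g' ≫ t) (hg₀ : g' ≫ t = g₀) : (yon S).obj (Over.mk g₀) ⟶ Z :=
  beta f Z P a φ hφ x g₀ (h.trans hg₀) (SchDDFam.Hom.push α (cp f t g' x h))

lemma zetaAt_congr {T₀ : Scheme.{u}} {g' g'' : T₀ ⟶ T} {x x' : T₀ ⟶ S'} (g₀ : T₀ ⟶ S)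
    (h : x ≫ f = g' ≫ t) (hg₀ : g' ≫ t = g₀) (hg : g' = g'') (hx : x = x') :
    zetaAt f Z P a φ hφ t α g' x g₀ h hg₀ =
      zetaAt f Z P a φ hφ t α g'' x' g₀ (by rw [← hg, ← hx]; exact h)
        (by rw [← hg]; exact hg₀) := by
  subst hg; subst hx; rfl

lemma zetaAt_nat {T₀ T₁ : Scheme.{u}} (k : T₁ ⟶ T₀) (g' : T₀ ⟶ T) (x : T₀ ⟶ S') (g₀ : T₀ ⟶ S)
    (h : x ≫ f = g' ≫ t) (hg₀ : g' ≫ t = g₀) (g₁ : T₁ ⟶ S) (hgg : k ≫ g₀ = g₁) :
    zetaAt f Z P a φ hφ t α (k ≫ g') (k ≫ x) g₁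
        (by rw [Category.assoc, h, Category.assoc])
        (by rw [Category.assoc, hg₀, hgg]) =
      (yon S).map (Over.homMk k hgg : Over.mk g₁ ⟶ Over.mk g₀) ≫
        zetaAt f Z P a φ hφ t α g' x g₀ h hg₀ := by
  unfold zetaAt
  refine beta_nat f Z P a φ hφ k x g₀ (h.trans hg₀) (k ≫ x) g₁ _ hgg _ _ ?_
  refine push_nat α k (i := PUnit.unit) (cp f t g' x h) (cp f t (k ≫ g') (k ≫ x) _) ?_
  exact res_cpt (X := fun _ : PUnit.{u + 1} => S') (f := fun _ : PUnit.{u + 1} => f)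
    (i := PUnit.unit) t k g' x h

lemma zetaAt_indep {T₀ : Scheme.{u}} (g' : T₀ ⟶ T) (x₁ x₂ : T₀ ⟶ S') (g₀ : T₀ ⟶ S)
    (h₁ : x₁ ≫ f = g' ≫ t) (h₂ : x₂ ≫ f = g' ≫ t) (hg₀ : g' ≫ t = g₀) :
    zetaAt f Z P a φ hφ t α g' x₁ g₀ h₁ hg₀ = zetaAt f Z P a φ hφ t α g' x₂ g₀ h₂ hg₀ := by
  unfold zetaAt
  have e1 := push_φ α (i := PUnit.unit) (j := PUnit.unit) x₁ x₂ (h₁.trans h₂.symm)
    (cp f t g' x₁ h₁)
  have e2 : ((toDDFam (fun _ : PUnit.{u + 1} => f)).obj (Over.mk t)).φ (i := PUnit.unit)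
      (j := PUnit.unit) x₁ x₂ (h₁.trans h₂.symm)
      (cp f t g' x₁ h₁) = cp f t g' x₂ h₂ :=
    canφ_cpt (X := fun _ : PUnit.{u + 1} => S') (f := fun _ : PUnit.{u + 1} => f)
      (i := PUnit.unit) (j := PUnit.unit) t g' x₁ x₂ h₁ h₂
  rw [e2] at e1
  have e3 := dd_φ_eq f Z P a φ hφ x₁ x₂ (h₁.trans h₂.symm) g₀ (h₁.trans hg₀) (h₂.trans hg₀)
    (SchDDFam.Hom.push α (cp f t g' x₁ h₁))
  have e4 : SchDDFam.Hom.push α (cp f t g' x₂ h₂) =
      (beta f Z P a φ hφ x₂ g₀ (h₂.trans hg₀)).symm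
        (beta f Z P a φ hφ x₁ g₀ (h₁.trans hg₀) (SchDDFam.Hom.push α (cp f t g' x₁ h₁))) :=
    e1.symm.trans e3
  rw [e4, Equiv.apply_symm_apply]

/-- the covering morphism `S' ×_S T ⟶ T` over `S` -/
noncomputable abbrev pHom : Over.mk (pullback.snd f t ≫ t) ⟶ Over.mk t :=
  Over.homMk (pullback.snd f t) rfl

variable [Flat f] [Surjective f] [LocallyOfFinitePresentation f]

theorem existsUnique_Phi :
    ∃! ξ : (yon S).obj (Over.mk t) ⟶ Z, (yon S).map (pHom f t) ≫ ξ =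
      zetaAt f Z P a φ hφ t α (pullback.snd f t) (pullback.fst f t) (pullback.snd f t ≫ t)
        pullback.condition rfl := by
  haveI : Flat (pHom f t).left := inferInstanceAs (Flat (pullback.snd f t))
  haveI : LocallyOfFinitePresentation (pHom f t).left :=
    inferInstanceAs (LocallyOfFinitePresentation (pullback.snd f t))
  haveI : Surjective (pHom f t).left := inferInstanceAs (Surjective (pullback.snd f t))
  refine existsUnique_desc_hom (pHom f t) Z _ ?_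
  intro T₀ t₀ e₁ e₂ h
  have hl : e₁.left ≫ pullback.snd f t = e₂.left ≫ pullback.snd f t :=
    congrArg CommaMorphism.left h
  have hw₁ : e₁.left ≫ (pullback.snd f t ≫ t) = t₀ := Over.w e₁
  have hw₂ : e₂.left ≫ (pullback.snd f t ≫ t) = t₀ := Over.w e₂
  have n1 := zetaAt_nat f Z P a φ hφ t α e₁.left (pullback.snd f t) (pullback.fst f t)
    (pullback.snd f t ≫ t) pullback.condition rfl t₀ hw₁
  have n2 := zetaAt_nat f Z P a φ hφ t α e₂.left (pullback.snd f t) (pullback.fst f t)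
    (pullback.snd f t ≫ t) pullback.condition rfl t₀ hw₂
  have k1 : (Over.homMk e₁.left hw₁ : Over.mk t₀ ⟶ Over.mk (pullback.snd f t ≫ t)) = e₁ := by
    apply Over.OverMorphism.ext; rfl
  have k2 : (Over.homMk e₂.left hw₂ : Over.mk t₀ ⟶ Over.mk (pullback.snd f t ≫ t)) = e₂ := by
    apply Over.OverMorphism.ext; rfl
  rw [k1] at n1
  rw [k2] at n2
  rw [← n1, ← n2]
  rw [zetaAt_congr f Z P a φ hφ t α t₀ _ _ hl rfl]
  exact zetaAt_indep f Z P a φ hφ t α _ _ _ t₀ _ _ _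

/-- the section of `Z` over `T` attached to a morphism of descent data -/
noncomputable def Phi : (yon S).obj (Over.mk t) ⟶ Z :=
  (existsUnique_Phi f Z P a φ hφ t α).exists.choose

lemma map_Phi : (yon S).map (pHom f t) ≫ Phi f Z P a φ hφ t α =
    zetaAt f Z P a φ hφ t α (pullback.snd f t) (pullback.fst f t) (pullback.snd f t ≫ t)
      pullback.condition rfl :=
  (existsUnique_Phi f Z P a φ hφ t α).exists.choose_spec

lemma Phi_unique (ξ : (yon S).obj (Over.mk t) ⟶ Z)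
    (h : (yon S).map (pHom f t) ≫ ξ =
      zetaAt f Z P a φ hφ t α (pullback.snd f t) (pullback.fst f t) (pullback.snd f t ≫ t)
        pullback.condition rfl) : ξ = Phi f Z P a φ hφ t α :=
  (existsUnique_Phi f Z P a φ hφ t α).unique h (map_Phi f Z P a φ hφ t α)

lemma Phi_spec {T₀ : Scheme.{u}} (g' : T₀ ⟶ T) (x : T₀ ⟶ S') (g₀ : T₀ ⟶ S)
    (h : x ≫ f = g' ≫ t) (hg₀ : g' ≫ t = g₀) :
    (yon S).map (Over.homMk g' hg₀ : Over.mk g₀ ⟶ Over.mk t) ≫ Phi f Z P a φ hφ t α =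
      zetaAt f Z P a φ hφ t α g' x g₀ h hg₀ := by
  have hc : pullback.lift x g' h ≫ (pullback.snd f t ≫ t) = g₀ := by
    rw [← Category.assoc, pullback.lift_snd, hg₀]
  have h1 : (Over.homMk g' hg₀ : Over.mk g₀ ⟶ Over.mk t) =
      (Over.homMk (pullback.lift x g' h) hc : Over.mk g₀ ⟶ Over.mk (pullback.snd f t ≫ t)) ≫
        pHom f t := by
    apply Over.OverMorphism.ext
    exact (pullback.lift_snd _ _ _).symm
  rw [h1, Functor.map_comp, Category.assoc, map_Phi]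
  have n1 := zetaAt_nat f Z P a φ hφ t α (pullback.lift x g' h) (pullback.snd f t)
    (pullback.fst f t) (pullback.snd f t ≫ t) pullback.condition rfl g₀ hc
  rw [← n1]
  exact (zetaAt_congr f Z P a φ hφ t α g₀ _ _ (pullback.lift_snd _ _ _).symm
    (pullback.lift_fst _ _ _).symm).symm

end Phi

end Groth.Agent.Helper2.FppfAffRep
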