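import Mathlib
import Groth.Agent.Lib.Helper2.GrpQ.FppfAffRep2
import Groth.Agent.S18858
import Groth.Agent.S0082

/-!
# An fppf sheaf which is fppf-locally represented by an affine scheme is represented by an affine
scheme (helper2)
-/

set_option autoImplicit false
set_option synthInstance.maxHeartbeats 400000
set_option maxHeartbeats 4000000
set_option linter.style.haveILetI false
set_option linter.unusedSectionVars false
set_option linter.unusedVariables false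
set_option linter.unusedSimpArgs false
set_option linter.unnecessarySimpa false

namespace Groth.Agent.Helper2.FppfAffRep
open CategoryTheory CategoryTheory.Limits AlgebraicGeometry Opposite AlgSp Desc
open Groth.Agent.Lib.Helper5.DescFam Groth.Agent.Helper2.DescSec
universe u

variable {S S' : Scheme.{u}}

theorem isIso_of_bijective {F G : Sp S} (ψ : F ⟶ G)
    (h : ∀ W : Over S, Function.Bijective (fun s : (yon S).obj W ⟶ F => s ≫ ψ)) : IsIso ψ := by
  have hb : ∀ W : (Over S)ᵒᵖ, Function.Bijective (ψ.hom.app W) := by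
    intro W
    obtain ⟨W⟩ := W
    let eF : ((yon S).obj W ⟶ F) ≃ F.obj.obj (op W) := (J S).uliftYonedaEquiv
    let eG : ((yon S).obj W ⟶ G) ≃ G.obj.obj (op W) := (J S).uliftYonedaEquiv
    have e : ∀ s : (yon S).obj W ⟶ F, ψ.hom.app (op W) (eF s) = eG (s ≫ ψ) := by
      intro s
      exact ((J S).uliftYonedaEquiv_comp s ψ).symm
    constructor
    · intro x y hxy
      obtain ⟨sx, rfl⟩ := eF.surjective x
      obtain ⟨sy, rfl⟩ := eF.surjective y
      rw [e, e] at hxy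
      have h1 : sx = sy := (h W).1 (eG.injective hxy)
      rw [h1]
    · intro y
      obtain ⟨s, hs⟩ := (h W).2 (eG.symm y)
      have hs' : s ≫ ψ = eG.symm y := hs
      refine ⟨eF s, ?_⟩
      rw [e, hs', Equiv.apply_symm_apply]
  haveI : IsIso ψ.hom := by
    haveI : ∀ W, IsIso (ψ.hom.app W) := fun W => (isIso_iff_bijective _).2 (hb W)
    exact NatIso.isIso_of_isIso_app _
  haveI : IsIso ((sheafToPresheaf (J S) (Type (u + 1))).map ψ) := ‹IsIso ψ.hom›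
  exact isIso_of_reflects_iso ψ (sheafToPresheaf (J S) (Type (u + 1)))

variable (f : S' ⟶ S) (Z : AlgSp.Sp S) (P : Over S) (a : P ⟶ Over.mk f)
  (φ : (yon S).obj P ≅ Z ⨯ (yon S).obj (Over.mk f))
  (hφ : φ.hom ≫ prod.snd = (yon S).map a)
  [Flat f] [Surjective f] [LocallyOfFinitePresentation f]

lemma Phi_nat {T T₁ : Scheme.{u}} (uh : T ⟶ S) (t₁ : T₁ ⟶ S) (k : Over.mk t₁ ⟶ Over.mk uh)
    (α : (toDDFam (fun _ : PUnit.{u + 1} => f)).obj (Over.mk uh) ⟶ dd f Z P a φ hφ) :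
    Phi f Z P a φ hφ t₁ ((toDDFam (fun _ : PUnit.{u + 1} => f)).map k ≫ α) =
      (yon S).map k ≫ Phi f Z P a φ hφ uh α := by
  symm
  apply Phi_unique
  have hk : k.left ≫ uh = t₁ := Over.w k
  have hg₀ : (pullback.snd f t₁ ≫ k.left) ≫ uh = pullback.snd f t₁ ≫ t₁ := by
    rw [Category.assoc, hk]
  have h1 : pHom f t₁ ≫ k = (Over.homMk (pullback.snd f t₁ ≫ k.left) hg₀ :
      Over.mk (pullback.snd f t₁ ≫ t₁) ⟶ Over.mk uh) := by
    apply Over.OverMorphism.ext; rfl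
  have hx : pullback.fst f t₁ ≫ f = (pullback.snd f t₁ ≫ k.left) ≫ uh := by
    rw [hg₀]; exact pullback.condition
  rw [← Category.assoc, ← Functor.map_comp, h1,
    Phi_spec f Z P a φ hφ uh α (pullback.snd f t₁ ≫ k.left) (pullback.fst f t₁)
      (pullback.snd f t₁ ≫ t₁) hx hg₀]
  unfold zetaAt
  refine congrArg _ ?_
  rw [push_comp]
  refine congrArg _ ?_
  exact (push_map_cpt (X := fun _ : PUnit.{u + 1} => S') (f := fun _ : PUnit.{u + 1} => f)
    (i := PUnit.unit) uh t₁ k (pullback.snd f t₁) (pullback.fst f t₁) pullback.condition).symm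

lemma Phi_injective {T : Scheme.{u}} (t : T ⟶ S)
    (α α' : (toDDFam (fun _ : PUnit.{u + 1} => f)).obj (Over.mk t) ⟶ dd f Z P a φ hφ)
    (h : Phi f Z P a φ hφ t α = Phi f Z P a φ hφ t α') : α = α' := by
  have h1 := map_Phi f Z P a φ hφ t α
  have h2 := map_Phi f Z P a φ hφ t α'
  rw [h] at h1
  have h3 := h1.symm.trans h2
  unfold zetaAt at h3
  have h4 := (beta f Z P a φ hφ _ _ _).injective h3
  apply hom_ext_push
  rintro ⟨⟩
  have hu : univ (((toDDFam (fun _ : PUnit.{u + 1} => f)).obj (Over.mk t)).obj PUnit.unit) =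
      cp f t (pullback.snd f t) (pullback.fst f t) pullback.condition := by
    apply Subtype.ext
    apply pullback.hom_ext
    · exact (Category.id_comp _).trans (pullback.lift_fst _ _ _).symm
    · exact (Category.id_comp _).trans (pullback.lift_snd _ _ _).symm
  rw [hu]
  exact h4

section surj

variable {T : Scheme.{u}} (t : T ⟶ S) (ζ : (yon S).obj (Over.mk t) ⟶ Z)

noncomputable def mOf {T₀ : Scheme.{u}} (x : T₀ ⟶ S') (g' : T₀ ⟶ T) (h : x ≫ f = g' ≫ t) :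
    Lifts (Over.mk a.left) x :=
  (beta f Z P a φ hφ x (g' ≫ t) h).symm
    ((yon S).map (Over.homMk g' rfl : Over.mk (g' ≫ t) ⟶ Over.mk t) ≫ ζ)

lemma mOf_congr {T₀ : Scheme.{u}} (x : T₀ ⟶ S') {g' g'' : T₀ ⟶ T} (h : x ≫ f = g' ≫ t)
    (hg : g' = g'') :
    mOf f Z P a φ hφ t ζ x g' h = mOf f Z P a φ hφ t ζ x g'' (by rw [← hg]; exact h) := by
  subst hg; rfl

lemma mOf_nat {T₀ T₁ : Scheme.{u}} (k : T₁ ⟶ T₀) (x : T₀ ⟶ S') (g' : T₀ ⟶ T)
    (h : x ≫ f = g' ≫ t) (h' : (k ≫ x) ≫ f = (k ≫ g') ≫ t) :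
    (mOf f Z P a φ hφ t ζ (k ≫ x) (k ≫ g') h').1 = k ≫ (mOf f Z P a φ hφ t ζ x g' h).1 := by
  have hgg : k ≫ (g' ≫ t) = (k ≫ g') ≫ t := (Category.assoc _ _ _).symm
  have h1 := beta_symm_nat f Z P a φ hφ k x (g' ≫ t) h (k ≫ x) ((k ≫ g') ≫ t) h' rfl hgg
    ((yon S).map (Over.homMk g' rfl : Over.mk (g' ≫ t) ⟶ Over.mk t) ≫ ζ)
  have h2 : (yon S).map (Over.homMk k hgg : Over.mk ((k ≫ g') ≫ t) ⟶ Over.mk (g' ≫ t)) ≫
      (yon S).map (Over.homMk g' rfl : Over.mk (g' ≫ t) ⟶ Over.mk t) ≫ ζ =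
      (yon S).map (Over.homMk (k ≫ g') rfl : Over.mk ((k ≫ g') ≫ t) ⟶ Over.mk t) ≫ ζ := by
    rw [← Category.assoc, ← Functor.map_comp]
    have h3 : (Over.homMk k hgg : Over.mk ((k ≫ g') ≫ t) ⟶ Over.mk (g' ≫ t)) ≫
        (Over.homMk g' rfl : Over.mk (g' ≫ t) ⟶ Over.mk t) =
        (Over.homMk (k ≫ g') rfl : Over.mk ((k ≫ g') ≫ t) ⟶ Over.mk t) := by
      apply Over.OverMorphism.ext; rfl
    rw [h3]
  rw [h2] at h1
  exact h1

lemma mOf_comm {T₀ : Scheme.{u}} (x₀ x₁ : T₀ ⟶ S') (g' : T₀ ⟶ T) (h₀ : x₀ ≫ f = g' ≫ t)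
    (h₁ : x₁ ≫ f = g' ≫ t) :
    (dd f Z P a φ hφ).φ (i := PUnit.unit) (j := PUnit.unit) x₀ x₁ (h₀.trans h₁.symm)
      (mOf f Z P a φ hφ t ζ x₀ g' h₀) = mOf f Z P a φ hφ t ζ x₁ g' h₁ := by
  rw [dd_φ_eq f Z P a φ hφ x₀ x₁ (h₀.trans h₁.symm) (g' ≫ t) h₀ h₁]
  unfold mOf
  rw [Equiv.apply_symm_apply]

noncomputable def ptMapOf :
    PtMap ((toDDFam (fun _ : PUnit.{u + 1} => f)).obj (Over.mk t)) (dd f Z P a φ hφ) where
  m T₀ _ x v := mOf f Z P a φ hφ t ζ x (v.1 ≫ pullback.snd f t)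
    (cpt_snd (X := fun _ : PUnit.{u + 1} => S') (f := fun _ : PUnit.{u + 1} => f)
      (i := PUnit.unit) t v)
  nat T₀ T₁ k _ x y v v' hv := by
    have hy : k ≫ x = y := hom_eq_of_lifts k v v' hv
    subst hy
    have hg : v'.1 ≫ pullback.snd f t = k ≫ (v.1 ≫ pullback.snd f t) := by
      rw [hv, Category.assoc]
    show (mOf f Z P a φ hφ t ζ (k ≫ x) (v'.1 ≫ pullback.snd f t) _).1 =
      k ≫ (mOf f Z P a φ hφ t ζ x (v.1 ≫ pullback.snd f t) _).1
    rw [mOf_congr f Z P a φ hφ t ζ (k ≫ x) _ hg]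
    exact mOf_nat f Z P a φ hφ t ζ k x (v.1 ≫ pullback.snd f t) _ _
  comm T₀ _ _ x₀ x₁ h v := by
    have hg : (((toDDFam (fun _ : PUnit.{u + 1} => f)).obj (Over.mk t)).φ (i := PUnit.unit)
        (j := PUnit.unit) x₀ x₁ h v).1 ≫ pullback.snd f t = v.1 ≫ pullback.snd f t := by
      show (canMapFam (fun _ : PUnit.{u + 1} => f) (Over.mk t) (i := PUnit.unit)
        (j := PUnit.unit) x₀ x₁ h v).1 ≫ pullback.snd f t = _
      rw [canMapFam_val]
      exact pullback.lift_snd _ _ _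
    show mOf f Z P a φ hφ t ζ x₁ ((((toDDFam (fun _ : PUnit.{u + 1} => f)).obj
      (Over.mk t)).φ (i := PUnit.unit) (j := PUnit.unit) x₀ x₁ h v).1 ≫ pullback.snd f t) _ =
      (dd f Z P a φ hφ).φ (i := PUnit.unit) (j := PUnit.unit) x₀ x₁ h
        (mOf f Z P a φ hφ t ζ x₀ (v.1 ≫ pullback.snd f t) _)
    rw [mOf_congr f Z P a φ hφ t ζ x₁ _ hg]
    exact (mOf_comm f Z P a φ hφ t ζ x₀ x₁ (v.1 ≫ pullback.snd f t) _ _).symm

theorem Phi_surjective :
    ∃ α : (toDDFam (fun _ : PUnit.{u + 1} => f)).obj (Over.mk t) ⟶ dd f Z P a φ hφ,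
      Phi f Z P a φ hφ t α = ζ := by
  refine ⟨(ptMapOf f Z P a φ hφ t ζ).toHom, ?_⟩
  symm
  apply Phi_unique
  unfold zetaAt
  rw [PtMap.toHom_push]
  have hg : (cp f t (pullback.snd f t) (pullback.fst f t) pullback.condition).1 ≫
      pullback.snd f t = pullback.snd f t := pullback.lift_snd _ _ _
  show _ = beta f Z P a φ hφ (pullback.fst f t) (pullback.snd f t ≫ t) _
    (mOf f Z P a φ hφ t ζ (pullback.fst f t)
      ((cp f t (pullback.snd f t) (pullback.fst f t) pullback.condition).1 ≫ pullback.snd f t) _)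
  rw [mOf_congr f Z P a φ hφ t ζ (pullback.fst f t) _ hg]
  unfold mOf
  rw [Equiv.apply_symm_apply]

end surj

end Groth.Agent.Helper2.FppfAffRep
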