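import Mathlib
import Groth.Agent.Lib.Helper2.GrpQ.FppfAffRep3

/-!
# An fppf sheaf which is fppf-locally represented by an affine scheme is represented by an affine
scheme: the main statement (helper2)
-/

set_option autoImplicit false
set_option synthInstance.maxHeartbeats 400000
set_option maxHeartbeats 4000000
set_option linter.style.haveILetI false
set_option linter.unusedSectionVars false
set_option linter.unusedVariables false
set_option linter.unusedSimpArgs false
set_option linter.unnecessarySimpa false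

namespace Groth.Agent.Helper2.FppfAffRep
open CategoryTheory CategoryTheory.Limits AlgebraicGeometry Opposite AlgSp Desc
open Groth.Agent.Lib.Helper5.DescFam Groth.Agent.Helper2.DescSec
universe u

variable {S S' : Scheme.{u}}

theorem exists_rep (f : S' ⟶ S) [Flat f] [Surjective f] [LocallyOfFinitePresentation f]
    (Z : AlgSp.Sp S) (P : Over S) (a : P ⟶ Over.mk f) [IsAffineHom a.left]
    (φ : (yon S).obj P ≅ Z ⨯ (yon S).obj (Over.mk f))
    (hφ : φ.hom ≫ prod.snd = (yon S).map a) :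
    ∃ U : Over S, IsAffineHom U.hom ∧ Nonempty ((yon S).obj U ≅ Z) := by
  have hf : Presieve.ofArrows (fun _ : PUnit.{u + 1} => S') (fun _ => f) ∈
      Scheme.fpqcPrecoverage S := by
    apply Scheme.fppfPrecoverage_le_fpqcPrecoverage
    rw [Scheme.fppfPrecoverage, Scheme.ofArrows_mem_precoverage_iff]
    exact ⟨fun s => ⟨⟨⟩, f.surjective s⟩, fun _ => ⟨inferInstance, inferInstance⟩⟩
  have hD : ∀ i, IsAffineHom ((dd f Z P a φ hφ).obj i).hom := fun _ => ‹IsAffineHom a.left›
  obtain ⟨U, ⟨E⟩⟩ := DescRed.isEffective_of_affineHom_fam (fun _ : PUnit.{u + 1} => f) hf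
    (dd f Z P a φ hφ) hD
  obtain ⟨Ul, ⟨⟨⟩⟩, uh⟩ := U
  change (toDDFam (fun _ : PUnit.{u + 1} => f)).obj (Over.mk uh) ≅ dd f Z P a φ hφ at E
  refine ⟨Over.mk uh, ?_, ?_⟩
  · haveI := Groth.Agent.S0082.result.{u}
    refine Groth.Agent.S18858.descends_fpqc_family @IsAffineHom uh _ hf ?_
    rintro T₀ g ⟨i⟩
    haveI : IsIso (E.hom.hom PUnit.unit).left := DescRed.isIso_left_of_iso E PUnit.unit
    have h1 : (E.hom.hom PUnit.unit).left ≫ a.left = pullback.fst f uh :=
      Over.w (E.hom.hom PUnit.unit)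
    haveI : IsAffineHom (pullback.fst f uh) := by
      rw [← h1]
      exact (MorphismProperty.cancel_left_of_respectsIso (P := @IsAffineHom)
        (E.hom.hom PUnit.unit).left a.left).2 ‹IsAffineHom a.left›
    have h2 : (pullbackSymmetry uh f).hom ≫ pullback.fst f uh = pullback.snd uh f :=
      pullbackSymmetry_hom_comp_fst _ _
    show IsAffineHom (pullback.snd uh f)
    rw [← h2]; infer_instance
  · obtain ⟨ψ, hψ⟩ : ∃ ψ, ψ = Phi f Z P a φ hφ uh E.hom := ⟨_, rfl⟩
    haveI : IsIso ψ := by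
      refine isIso_of_bijective ψ ?_
      intro W
      obtain ⟨Wl, ⟨⟨⟩⟩, w⟩ := W
      change Function.Bijective
        (fun s : (yon S).obj (Over.mk w) ⟶ (yon S).obj (Over.mk uh) => s ≫ ψ)
      constructor
      · intro s₁ s₂ h
        obtain ⟨g₁, rfl⟩ := (yon S).map_surjective s₁
        obtain ⟨g₂, rfl⟩ := (yon S).map_surjective s₂
        have h' : (yon S).map g₁ ≫ ψ = (yon S).map g₂ ≫ ψ := h
        rw [hψ, ← Phi_nat, ← Phi_nat] at h'
        have h2 := Phi_injective f Z P a φ hφ w _ _ h'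
        have h3 : (toDDFam (fun _ : PUnit.{u + 1} => f)).map g₁ =
            (toDDFam (fun _ : PUnit.{u + 1} => f)).map g₂ := by
          have h4 := congrArg (· ≫ E.inv) h2
          simpa using h4
        haveI := toDDFam_faithful (fun _ : PUnit.{u + 1} => f) hf
        rw [(toDDFam (fun _ : PUnit.{u + 1} => f)).map_injective h3]
      · intro ζ
        obtain ⟨α, hα⟩ := Phi_surjective f Z P a φ hφ w ζ
        haveI := toDDFam_full (fun _ : PUnit.{u + 1} => f) hf
        obtain ⟨g, hg⟩ := (toDDFam (fun _ : PUnit.{u + 1} => f)).map_surjective (α ≫ E.inv)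
        refine ⟨(yon S).map g, ?_⟩
        show (yon S).map g ≫ ψ = ζ
        rw [hψ, ← Phi_nat, hg, Category.assoc, Iso.inv_hom_id, Category.comp_id, hα]
    exact ⟨asIso ψ⟩

theorem main {S S' : Scheme.{u}} (f : S' ⟶ S)
    [Flat f] [Surjective f] [LocallyOfFinitePresentation f]
    (Z : QuotSh.Sh Scheme.fppfPrecoverage S)
    (T' : Over S) (a : T' ⟶ Over.mk f) [IsAffineHom a.left]
    (φ : QuotSh.rep Scheme.fppfPrecoverage T' ≅ Z ⨯ QuotSh.rep Scheme.fppfPrecoverage (Over.mk f))
    (hφ : φ.hom ≫ prod.snd = QuotSh.repMap Scheme.fppfPrecoverage a) :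
    ∃ T : Over S, IsAffineHom T.hom ∧ Nonempty (QuotSh.rep Scheme.fppfPrecoverage T ≅ Z) := by
  let φ' : (yon S).obj T' ≅ Z ⨯ (yon S).obj (Over.mk f) :=
    (QuotSh.repIsoUliftYoneda Scheme.fppfPrecoverage T').symm ≪≫ φ ≪≫
      prod.mapIso (Iso.refl Z) (QuotSh.repIsoUliftYoneda Scheme.fppfPrecoverage (Over.mk f))
  have hφ' : φ'.hom ≫ prod.snd = (yon S).map a := by
    show ((QuotSh.repIsoUliftYoneda Scheme.fppfPrecoverage T').inv ≫ φ.hom ≫
      prod.map (𝟙 Z) (QuotSh.repIsoUliftYoneda Scheme.fppfPrecoverage (Over.mk f)).hom) ≫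
        prod.snd = _
    rw [Category.assoc, Category.assoc, prod.map_snd, ← Category.assoc φ.hom, hφ,
      QuotEff.repMap_repIso, Iso.inv_hom_id_assoc]
  obtain ⟨U, hU, ⟨e⟩⟩ := exists_rep f Z T' a φ' hφ'
  exact ⟨U, hU, ⟨QuotSh.repIsoUliftYoneda Scheme.fppfPrecoverage U ≪≫ e⟩⟩

end Groth.Agent.Helper2.FppfAffRep
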