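import Mathlib
import Groth.Prelude.Def_QuotSh
import Groth.Prelude.Def_AlgSp
import Groth.Agent.Lib.Helper2.Sch.QuotEffK
import Groth.Agent.Lib.Helper2.Sch.QuotKerPair

/-!
# Sections of the fpqc quotient sheaf `U/R` : local lifts and the relation they cut out (helper2)

Generalities on the big fpqc site of `S` used to describe the `T`-points of the quotient sheaf
`U/R` of an equivalence relation: small fpqc refinements of covering sieves, separatedness along
covering families, the condition `Cond a b` ("the class of `a` in `U/R` is the section `σ` pulled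
back along `b`") and its basic properties.
-/

set_option backward.isDefEq.respectTransparency.types false
set_option autoImplicit false
set_option synthInstance.maxHeartbeats 400000
set_option maxHeartbeats 4000000
set_option linter.style.haveILetI false
set_option linter.unusedSectionVars false
set_option linter.unusedVariables false
set_option linter.unusedSimpArgs false
set_option linter.unnecessarySimpa false

namespace Groth.Agent.Helper2.QuotPts
open CategoryTheory CategoryTheory.Limits AlgebraicGeometry Opposite AlgSp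
open Groth.Agent.Helper2.QuotEffK
universe u

/-- the fpqc precoverage -/
abbrev Kq : Precoverage Scheme.{u} := Scheme.fpqcPrecoverage

/-- A covering sieve for the fpqc topology contains a small fpqc covering family. -/
theorem exists_small_fpqc {T : Scheme.{u}} (Sv : Sieve T) (hSv : Sv ∈ Scheme.fpqcTopology T) :
    ∃ (ι : Type u) (Y : ι → Scheme.{u}) (c : ∀ i, Y i ⟶ T),
      Presieve.ofArrows Y c ∈ Scheme.fpqcPrecoverage T ∧ ∀ i, Sv (c i) := by
  rw [Precoverage.mem_toGrothendieck_iff_of_isStableUnderComposition] at hSv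
  obtain ⟨R, hR, hle⟩ := hSv
  obtain ⟨I0, Ti, f, rfl⟩ := R.exists_eq_ofArrows
  let E : PreZeroHypercover.{u+1} T := ⟨I0, Ti, f⟩
  have hE : E.presieve₀ = Presieve.ofArrows Ti f := rfl
  haveI hqc : QuasiCompactCover E := Scheme.presieve₀_mem_qcPrecoverage_iff.mp (hE ▸ hR.1)
  obtain ⟨hcovers, hflat⟩ := (Scheme.presieve₀_mem_precoverage_iff E).mp (hE ▸ hR.2)
  let E' : PreZeroHypercover.{u} T := QuasiCompactCover.ulift E
  let H : E'.Hom E := QuasiCompactCover.uliftHom E
  refine ⟨E'.I₀, E'.X, E'.f, ?_, fun i => ?_⟩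
  · have h1 : E'.presieve₀ ∈ Scheme.qcPrecoverage T :=
      Scheme.presieve₀_mem_qcPrecoverage_iff.mpr inferInstance
    have h2 : E'.presieve₀ ∈ Scheme.precoverage @Flat T := by
      refine (Scheme.presieve₀_mem_precoverage_iff E').mpr ⟨fun x => ?_, fun i => hflat _⟩
      obtain ⟨_, ⟨A, hA : IsAffineOpen A, rfl⟩, hxA, -⟩ :=
        T.isBasis_affineOpens.exists_subset_of_mem_open (Set.mem_univ x) isOpen_univ
      obtain ⟨n, idx, V, hV, hcov⟩ :=
        QuasiCompactCover.exists_isAffineOpen_of_isCompact E' (U := A) hA.isCompact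
      have hx : x ∈ (A : Set T) := hxA
      rw [← hcov] at hx
      simp only [Set.mem_iUnion] at hx
      obtain ⟨k, y, hy, rfl⟩ := hx
      exact ⟨idx k, y, rfl⟩
    exact ⟨h1, h2⟩
  · have h1 : Sv (E.f (H.s₀ i)) := hle _ _ (Presieve.ofArrows.mk (H.s₀ i))
    have h2 := Sv.downward_closed h1 (H.h₀ i)
    rwa [H.w₀ i] at h2

variable {S : Scheme.{u}}

/-- A covering sieve of the big fpqc site of `S` contains a small fpqc covering family. -/
theorem exists_small_over {T : Over S} (Sv : Sieve T) (hSv : Sv ∈ QuotSh.J Kq S T) :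
    ∃ (ι : Type u) (Y : ι → Scheme.{u}) (c : ∀ i, Y i ⟶ T.left),
      Presieve.ofArrows Y c ∈ Scheme.fpqcPrecoverage T.left ∧
      ∀ i, Sv (Over.homMk (c i) rfl : Over.mk (c i ≫ T.hom) ⟶ T) := by
  have h1 : Sieve.overEquiv T Sv ∈ Scheme.fpqcTopology T.left :=
    (GrothendieckTopology.mem_over_iff _ Sv).1 hSv
  obtain ⟨ι, Y, c, hc, hS⟩ := exists_small_fpqc _ h1
  exact ⟨ι, Y, c, hc, fun i => (Sieve.overEquiv_iff Sv (c i)).1 (hS i)⟩

/-- Sections of an fpqc sheaf agreeing on an fpqc covering family are equal. -/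
theorem sec_ext_fam (F : QuotSh.Sh Kq S) {W : Over S} {κ : Type u} (Vo : κ → Over S)
    (πo : ∀ k, Vo k ⟶ W)
    (hπ : Presieve.ofArrows (fun k => (Vo k).left) (fun k => (πo k).left) ∈
      Scheme.fpqcPrecoverage W.left)
    (x y : F.obj.obj (op W)) (h : ∀ k, F.obj.map (πo k).op x = F.obj.map (πo k).op y) :
    x = y := by
  let Sv : Sieve W :=
    { arrows := fun W' g => F.obj.map g.op x = F.obj.map g.op y
      downward_closed := by
        intro A B g hg g'
        show F.obj.map (g' ≫ g).op x = F.obj.map (g' ≫ g).op y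
        rw [op_comp, FunctorToTypes.map_comp_apply, FunctorToTypes.map_comp_apply, hg] }
  have hSv : Sv ∈ QuotSh.J Kq S W := by
    rw [GrothendieckTopology.mem_over_iff]
    refine GrothendieckTopology.superset_covering _ ?_
      (Precoverage.generate_mem_toGrothendieck hπ)
    rw [Sieve.generate_le_iff]
    rintro _ _ ⟨k⟩
    exact ⟨Vo k, πo k, 𝟙 _, h k, (Category.id_comp _).symm⟩
  have hsh : Presieve.IsSheaf (QuotSh.J Kq S) F.obj :=
    (isSheaf_iff_isSheaf_of_type _ _).1 F.property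
  exact (hsh Sv hSv).isSeparatedFor.ext (fun W' g hg => hg)

/-- naturality of a map out of a representable sheaf, on sections -/
theorem app_comp {A : Over S} {F : QuotSh.Sh Kq S} (m : (yonK Kq).obj A ⟶ F) {W W' : Over S}
    (g : W' ⟶ W) (a : W ⟶ A) :
    m.hom.app (op W') (ULift.up (g ≫ a)) = F.obj.map g.op (m.hom.app (op W) (ULift.up a)) :=
  NatTrans.naturality_apply m.hom g.op _

/-- maps out of a representable sheaf are determined by the image of the identity -/
theorem hom_ext_app {Z : Over S} {F : QuotSh.Sh Kq S} (m₁ m₂ : (yonK Kq).obj Z ⟶ F)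
    (h : m₁.hom.app (op Z) (ULift.up (𝟙 Z)) = m₂.hom.app (op Z) (ULift.up (𝟙 Z))) : m₁ = m₂ := by
  apply Sheaf.hom_ext
  apply NatTrans.ext
  funext W
  obtain ⟨W⟩ := W
  refine ConcreteCategory.hom_ext _ _ (fun x => ?_)
  obtain ⟨a⟩ := x
  have h1 := app_comp m₁ a (𝟙 Z)
  have h2 := app_comp m₂ a (𝟙 Z)
  rw [Category.comp_id] at h1 h2
  rw [h1, h2, h]

section Cond

variable {R U : Over S} (s t : R ⟶ U)

theorem qπ_condition : (yonK Kq).map s ≫ qπ Kq s t = (yonK Kq).map t ≫ qπ Kq s t := by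
  have h1 : (yonK Kq).map s ≫ qπ Kq s t =
      (QuotSh.repIsoUliftYoneda Kq R).inv ≫ QuotSh.repMap Kq s ≫ QuotSh.quotπ Kq s t := by
    show (yonK Kq).map s ≫ (QuotSh.repIsoUliftYoneda Kq U).inv ≫ QuotSh.quotπ Kq s t = _
    rw [← Category.assoc, ← repIso_inv_repMap, Category.assoc]
  have h2 : (yonK Kq).map t ≫ qπ Kq s t =
      (QuotSh.repIsoUliftYoneda Kq R).inv ≫ QuotSh.repMap Kq t ≫ QuotSh.quotπ Kq s t := by
    show (yonK Kq).map t ≫ (QuotSh.repIsoUliftYoneda Kq U).inv ≫ QuotSh.quotπ Kq s t = _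
    rw [← Category.assoc, ← repIso_inv_repMap, Category.assoc]
  rw [h1, h2, QuotSh.quot_condition]

theorem qπ_app_condition {W : Over S} (r : W ⟶ R) :
    (qπ Kq s t).hom.app (op W) (ULift.up (r ≫ s)) =
      (qπ Kq s t).hom.app (op W) (ULift.up (r ≫ t)) :=
  congrArg (fun m : (yonK Kq).obj R ⟶ QuotSh.quot Kq s t => m.hom.app (op W) (ULift.up r))
    (qπ_condition s t)

variable {T : Over S} (σ' : (yonK Kq).obj T ⟶ QuotSh.quot Kq s t)

/-- the class of `a` in `U/R` is the section `σ'` pulled back along `b` -/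
def Cond {W : Over S} (a : W ⟶ U) (b : W ⟶ T) : Prop :=
  (qπ Kq s t).hom.app (op W) (ULift.up a) = σ'.hom.app (op W) (ULift.up b)

theorem Cond_nat {W W' : Over S} (g : W' ⟶ W) {a : W ⟶ U} {b : W ⟶ T}
    (h : Cond s t σ' a b) : Cond s t σ' (g ≫ a) (g ≫ b) := by
  unfold Cond at h ⊢
  rw [app_comp, app_comp, h]

theorem Cond_loc {W : Over S} (a : W ⟶ U) (b : W ⟶ T) {κ : Type u} (Vo : κ → Over S)
    (πo : ∀ k, Vo k ⟶ W)
    (hπ : Presieve.ofArrows (fun k => (Vo k).left) (fun k => (πo k).left) ∈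
      Scheme.fpqcPrecoverage W.left)
    (h : ∀ k, Cond s t σ' (πo k ≫ a) (πo k ≫ b)) : Cond s t σ' a b := by
  refine sec_ext_fam (QuotSh.quot Kq s t) Vo πo hπ _ _ (fun k => ?_)
  have h1 := h k
  unfold Cond at h1
  rw [app_comp, app_comp] at h1
  exact h1

theorem Cond_st {W : Over S} (ρ : W ⟶ R) (b : W ⟶ T) :
    Cond s t σ' (ρ ≫ s) b ↔ Cond s t σ' (ρ ≫ t) b := by
  unfold Cond
  rw [qπ_app_condition]

theorem Cond_rel (hE : IsEqvRel s t) {W W' : Over S} {u : W ⟶ U} {b : W ⟶ T}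
    (hu : Cond s t σ' u b) (g : W' ⟶ W) (a : W' ⟶ U) :
    Cond s t σ' a (g ≫ b) ↔ ∃ r : W' ⟶ R, r ≫ t = a ∧ r ≫ s = g ≫ u := by
  have h1 : (qπ Kq s t).hom.app (op W') (ULift.up (g ≫ u)) =
      σ'.hom.app (op W') (ULift.up (g ≫ b)) := Cond_nat s t σ' g hu
  constructor
  · intro h
    exact rel_of_qπ_app_eq Kq s t hE a (g ≫ u) (h.trans h1.symm)
  · rintro ⟨r, rfl, hr⟩
    show (qπ Kq s t).hom.app (op W') (ULift.up (r ≫ t)) = _
    rw [← qπ_app_condition, hr]
    exact h1

theorem Cond_rel2 (hE : IsEqvRel s t) {W : Over S} {a a' : W ⟶ U} {b : W ⟶ T}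
    (h : Cond s t σ' a b) (h' : Cond s t σ' a' b) : ∃ r : W ⟶ R, r ≫ t = a ∧ r ≫ s = a' :=
  rel_of_qπ_app_eq Kq s t hE a a' (h.trans h'.symm)

/-- Every section of the quotient sheaf lifts to `U` on a small fpqc covering family. -/
theorem exists_lifts : ∃ (ι : Type u) (Y : ι → Scheme.{u}) (c : ∀ i, Y i ⟶ T.left)
    (u : ∀ i, Over.mk (c i ≫ T.hom) ⟶ U),
    Presieve.ofArrows Y c ∈ Scheme.fpqcPrecoverage T.left ∧
    ∀ i, Cond s t σ' (u i) (Over.homMk (c i) rfl : Over.mk (c i ≫ T.hom) ⟶ T) := by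
  haveI : Epi (QuotSh.quotπ Kq s t) := by
    unfold QuotSh.quotπ; exact coequalizer.π_epi
  haveI : Epi (qπ Kq s t) := by
    show Epi ((QuotSh.repIsoUliftYoneda Kq U).inv ≫ QuotSh.quotπ Kq s t)
    infer_instance
  haveI : Sheaf.IsLocallySurjective (qπ Kq s t) :=
    (Sheaf.isLocallySurjective_iff_epi (qπ Kq s t)).mpr inferInstance
  have h2 := (inferInstance : Presheaf.IsLocallySurjective (QuotSh.J Kq S)
    (qπ Kq s t).hom).imageSieve_mem (U := T) (σ'.hom.app (op T) (ULift.up (𝟙 T)))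
  obtain ⟨ι, Y, c, hc, hS⟩ := exists_small_over _ h2
  choose y hy using hS
  refine ⟨ι, Y, c, fun i => (y i).down, hc, fun i => ?_⟩
  have h5 : (qπ Kq s t).hom.app (op (Over.mk (c i ≫ T.hom))) (y i) =
      (QuotSh.quot Kq s t).obj.map (Over.homMk (c i) rfl : Over.mk (c i ≫ T.hom) ⟶ T).op
        (σ'.hom.app (op T) (ULift.up (𝟙 T))) := hy i
  have h6 := app_comp σ' (Over.homMk (c i) rfl : Over.mk (c i ≫ T.hom) ⟶ T) (𝟙 T)
  rw [Category.comp_id] at h6
  show (qπ Kq s t).hom.app (op (Over.mk (c i ≫ T.hom))) (ULift.up (y i).down) = _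
  rw [h6]
  exact h5

/-- the sheaf-level compatibility with `σ` in terms of sections -/
theorem d_iff (σ : QuotSh.rep Kq T ⟶ QuotSh.quot Kq s t) {Z : Over S} (a : Z ⟶ U) (b : Z ⟶ T) :
    (QuotSh.repMap Kq a ≫ QuotSh.quotπ Kq s t = QuotSh.repMap Kq b ≫ σ) ↔
      Cond s t ((QuotSh.repIsoUliftYoneda Kq T).inv ≫ σ) a b := by
  have e1 : QuotSh.repMap Kq a ≫ QuotSh.quotπ Kq s t =
      (QuotSh.repIsoUliftYoneda Kq Z).hom ≫ ((yonK Kq).map a ≫ qπ Kq s t) := by
    have h := repMap_repIso Kq a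
    have h' : (QuotSh.repIsoUliftYoneda Kq Z).hom ≫ ((yonK Kq).map a ≫
        ((QuotSh.repIsoUliftYoneda Kq U).inv ≫ QuotSh.quotπ Kq s t)) =
        QuotSh.repMap Kq a ≫ (QuotSh.repIsoUliftYoneda Kq U).hom ≫
          ((QuotSh.repIsoUliftYoneda Kq U).inv ≫ QuotSh.quotπ Kq s t) := by
      rw [← Category.assoc, ← h, Category.assoc]
    rw [Iso.hom_inv_id_assoc] at h'
    exact h'.symm
  have e2 : QuotSh.repMap Kq b ≫ σ =
      (QuotSh.repIsoUliftYoneda Kq Z).hom ≫ ((yonK Kq).map b ≫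
        ((QuotSh.repIsoUliftYoneda Kq T).inv ≫ σ)) := by
    have h := repMap_repIso Kq b
    have h' : (QuotSh.repIsoUliftYoneda Kq Z).hom ≫ ((yonK Kq).map b ≫
        ((QuotSh.repIsoUliftYoneda Kq T).inv ≫ σ)) =
        QuotSh.repMap Kq b ≫ (QuotSh.repIsoUliftYoneda Kq T).hom ≫
          ((QuotSh.repIsoUliftYoneda Kq T).inv ≫ σ) := by
      rw [← Category.assoc, ← h, Category.assoc]
    rw [Iso.hom_inv_id_assoc] at h'
    exact h'.symm
  have ha : ((yonK Kq).map a).hom.app (op Z) (ULift.up (𝟙 Z)) = ULift.up a := by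
    show ULift.up (𝟙 Z ≫ a) = _
    rw [Category.id_comp]
  have hb : ((yonK Kq).map b).hom.app (op Z) (ULift.up (𝟙 Z)) = ULift.up b := by
    show ULift.up (𝟙 Z ≫ b) = _
    rw [Category.id_comp]
  rw [e1, e2, cancel_epi]
  constructor
  · intro h
    have h1 := congrArg (fun m : (yonK Kq).obj Z ⟶ QuotSh.quot Kq s t =>
      m.hom.app (op Z) (ULift.up (𝟙 Z))) h
    show (qπ Kq s t).hom.app (op Z) (ULift.up a) = _
    rw [← ha, ← hb]
    exact h1
  · intro h
    apply hom_ext_app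
    show (qπ Kq s t).hom.app (op Z) (((yonK Kq).map a).hom.app (op Z) (ULift.up (𝟙 Z))) =
      ((QuotSh.repIsoUliftYoneda Kq T).inv ≫ σ).hom.app (op Z)
        (((yonK Kq).map b).hom.app (op Z) (ULift.up (𝟙 Z)))
    rw [ha, hb]
    exact h

end Cond

end Groth.Agent.Helper2.QuotPts
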