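import Mathlib
import Groth.Prelude.Def_DescFam
import Groth.Agent.Lib.Helper5.Misc.DescFam2
import Groth.Agent.Lib.Helper2.Desc.AffFam
import Groth.Agent.Lib.Helper2.Desc.OpenSubEff
import Groth.Agent.S18858
import Groth.Agent.S0083

/-!
# Descent of subschemes cut out by an fpqc-local condition (helper2)

Given an fpqc covering family `f i : X i ⟶ Y₀`, a condition `C` on points of `Y₀` which is stable
under restriction and fpqc-local, and monomorphisms `Z i ⟶ X i` whose points are the points `x`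
of `X i` with `C (x ≫ f i)`, the `Z i` carry a canonical descent datum; if it is effective, the
descended scheme `Z₀ ⟶ Y₀` is a monomorphism whose points are the points of `Y₀` satisfying `C`.
-/

set_option backward.isDefEq.respectTransparency.types false
set_option autoImplicit false
set_option synthInstance.maxHeartbeats 400000
set_option maxHeartbeats 4000000
set_option linter.style.haveILetI false
set_option linter.unusedSectionVars false
set_option linter.unusedVariables false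
set_option linter.unusedSimpArgs false
set_option linter.unnecessarySimpa false

namespace Groth.Agent.Helper2.QuotPts
open CategoryTheory CategoryTheory.Limits AlgebraicGeometry Opposite Desc
open Groth.Agent.Lib.Helper5.DescFam
universe u

lemma lifts_subsingleton {Y : Scheme.{u}} (V : Over Y) [Mono V.hom] {T : Scheme.{u}}
    (x : T ⟶ Y) : Subsingleton (Lifts V x) :=
  ⟨fun a b => Subtype.ext ((cancel_mono V.hom).1 (a.2.trans b.2.symm))⟩

lemma lifts_val_eq {Y : Scheme.{u}} (V : Over Y) [Mono V.hom] {T T' : Scheme.{u}} (g : T' ⟶ T)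
    {x : T ⟶ Y} {y : T' ⟶ Y} (hy : g ≫ x = y) (w : Lifts V x) (w' : Lifts V y) :
    w'.1 = g ≫ w.1 := by
  apply (cancel_mono V.hom).1
  rw [Category.assoc, w.2, w'.2, hy]

section ADL

variable {Y₀ : Scheme.{u}} {ι : Type u} {X : ι → Scheme.{u}} (f : ∀ i, X i ⟶ Y₀)
  (C : ∀ ⦃W : Scheme.{u}⦄, (W ⟶ Y₀) → Prop) (Z : ∀ i, Over (X i))
  (hZ : ∀ (i : ι) ⦃W : Scheme.{u}⦄ (x : W ⟶ X i),
      (∃ v : W ⟶ (Z i).left, v ≫ (Z i).hom = x) ↔ C (x ≫ f i))

/-- transport of points between the members of the family -/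
noncomputable def trl {T : Scheme.{u}} {i j : ι} (x₀ : T ⟶ X i) (x₁ : T ⟶ X j)
    (h : x₀ ≫ f i = x₁ ≫ f j) (v : Lifts (Z i) x₀) : Lifts (Z j) x₁ :=
  have hC : C (x₁ ≫ f j) := by rw [← h]; exact (hZ i x₀).1 ⟨v.1, v.2⟩
  ⟨((hZ j x₁).2 hC).choose, ((hZ j x₁).2 hC).choose_spec⟩

/-- the descent datum on a family of subobjects cut out by a condition on the base -/
noncomputable def subDD [∀ i, Mono (Z i).hom] : SchDDFam f where
  obj := Z
  φ T i j x₀ x₁ h :=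
    haveI := lifts_subsingleton (Z i) x₀
    haveI := lifts_subsingleton (Z j) x₁
    equivOfSubsingletonOfSubsingleton (trl f C Z hZ x₀ x₁ h) (trl f C Z hZ x₁ x₀ h.symm)
  φ_natural T T' g i j x₀ x₁ h y₀ y₁ hy₀ hy₁ h' v v' hv := lifts_val_eq (Z j) g hy₁ _ _
  φ_self T i x v := by
    haveI := lifts_subsingleton (Z i) x
    exact Subsingleton.elim _ _
  φ_comp T i j k x₀ x₁ x₂ h₀₁ h₁₂ v := by
    haveI := lifts_subsingleton (Z k) x₂
    exact Subsingleton.elim _ _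

theorem exists_sub [∀ i, Mono (Z i).hom]
    (hf : Presieve.ofArrows X f ∈ Scheme.fpqcPrecoverage Y₀)
    (hnat : ∀ ⦃W W' : Scheme.{u}⦄ (g : W' ⟶ W) (x : W ⟶ Y₀), C x → C (g ≫ x))
    (hloc : ∀ ⦃W : Scheme.{u}⦄ (x : W ⟶ Y₀) (κ : Type u) (V : κ → Scheme.{u})
      (π : ∀ k, V k ⟶ W), Presieve.ofArrows V π ∈ Scheme.fpqcPrecoverage W →
      (∀ k, C (π k ≫ x)) → C x)
    (heff : (subDD f C Z hZ).IsEffective) :
    ∃ (Z₀ : Scheme.{u}) (ι₀ : Z₀ ⟶ Y₀), Mono ι₀ ∧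
      (∀ ⦃W : Scheme.{u}⦄ (x : W ⟶ Y₀), (∃ z : W ⟶ Z₀, z ≫ ι₀ = x) ↔ C x) ∧
      ∀ i, ∃ a : (Z i).left ⟶ Z₀, IsPullback a (Z i).hom ι₀ (f i) := by
  obtain ⟨Z₀, ι₀, ⟨e⟩⟩ : ∃ (Z₀ : Scheme.{u}) (ι₀ : Z₀ ⟶ Y₀),
      Nonempty ((toDDFam f).obj (Over.mk ι₀) ≅ subDD f C Z hZ) := by
    obtain ⟨E, ⟨e⟩⟩ := heff
    obtain ⟨Z₀, ⟨⟨⟩⟩, ι₀⟩ := E
    exact ⟨Z₀, ι₀, ⟨e⟩⟩
  obtain ⟨eh, ei, hw1, hw2, hinv1, hinv2⟩ : ∃ (eh : ∀ i, pullback (f i) ι₀ ⟶ (Z i).left)
      (ei : ∀ i, (Z i).left ⟶ pullback (f i) ι₀),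
      (∀ i, eh i ≫ (Z i).hom = pullback.fst (f i) ι₀) ∧
      (∀ i, ei i ≫ pullback.fst (f i) ι₀ = (Z i).hom) ∧
      (∀ i, eh i ≫ ei i = 𝟙 _) ∧ (∀ i, ei i ≫ eh i = 𝟙 _) :=
    ⟨fun i => (e.hom.hom i).left, fun i => (e.inv.hom i).left, fun i => Over.w (e.hom.hom i),
      fun i => Over.w (e.inv.hom i),
      fun i => congrArg (fun a : (toDDFam f).obj (Over.mk ι₀) ⟶ (toDDFam f).obj (Over.mk ι₀) =>
        (a.hom i).left) e.hom_inv_id,
      fun i => congrArg (fun a : subDD f C Z hZ ⟶ subDD f C Z hZ => (a.hom i).left)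
        e.inv_hom_id⟩
  clear e
  have hmfst : ∀ i, Mono (pullback.fst (f i) ι₀) := by
    intro i
    rw [← hw1 i]
    haveI : IsIso (eh i) := ⟨ei i, hinv1 i, hinv2 i⟩
    exact mono_comp _ _
  have hmono : Mono ι₀ := by
    refine ⟨fun {W} a b hab => ?_⟩
    refine jointly_epi_of_fpqc _ (cover_fst f hf (a ≫ ι₀)) a b (fun i => ?_)
    have hc : pullback.fst (a ≫ ι₀) (f i) ≫ a ≫ ι₀ = pullback.snd (a ≫ ι₀) (f i) ≫ f i :=
      pullback.condition
    have hca : pullback.snd (a ≫ ι₀) (f i) ≫ f i = (pullback.fst (a ≫ ι₀) (f i) ≫ a) ≫ ι₀ := by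
      rw [Category.assoc]; exact hc.symm
    have hcb : pullback.snd (a ≫ ι₀) (f i) ≫ f i = (pullback.fst (a ≫ ι₀) (f i) ≫ b) ≫ ι₀ := by
      rw [Category.assoc, ← hab]; exact hc.symm
    haveI := hmfst i
    have h1 : pullback.lift (pullback.snd (a ≫ ι₀) (f i)) (pullback.fst (a ≫ ι₀) (f i) ≫ a) hca =
        pullback.lift (pullback.snd (a ≫ ι₀) (f i)) (pullback.fst (a ≫ ι₀) (f i) ≫ b) hcb := by
      apply (cancel_mono (pullback.fst (f i) ι₀)).1
      rw [pullback.lift_fst, pullback.lift_fst]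
    have h2 := congrArg (· ≫ pullback.snd (f i) ι₀) h1
    simp only [pullback.lift_snd] at h2
    exact h2
  have hpts : ∀ ⦃W : Scheme.{u}⦄ (x : W ⟶ Y₀), (∃ z : W ⟶ Z₀, z ≫ ι₀ = x) ↔ C x := by
    intro W x
    have hc : ∀ i, pullback.fst x (f i) ≫ x = pullback.snd x (f i) ≫ f i := fun i =>
      pullback.condition
    constructor
    · rintro ⟨z, hz⟩
      refine hloc x ι _ _ (cover_fst f hf x) (fun i => ?_)
      rw [hc i]
      have hl : pullback.snd x (f i) ≫ f i = (pullback.fst x (f i) ≫ z) ≫ ι₀ := by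
        rw [Category.assoc, hz]; exact (hc i).symm
      refine (hZ i _).1 ⟨pullback.lift (pullback.snd x (f i)) (pullback.fst x (f i) ≫ z) hl ≫
        eh i, ?_⟩
      rw [Category.assoc, hw1 i, pullback.lift_fst]
    · intro hC
      have hCi : ∀ i, C (pullback.snd x (f i) ≫ f i) := fun i => by
        rw [← hc i]; exact hnat _ _ hC
      choose v hv using fun i => (hZ i _).2 (hCi i)
      have hzz : ∀ i, (v i ≫ ei i ≫ pullback.snd (f i) ι₀) ≫ ι₀ =
          pullback.fst x (f i) ≫ x := fun i => by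
        have h1 : pullback.snd (f i) ι₀ ≫ ι₀ = pullback.fst (f i) ι₀ ≫ f i :=
          pullback.condition.symm
        have h2 : (v i ≫ ei i ≫ pullback.snd (f i) ι₀) ≫ ι₀ =
            (v i ≫ (ei i ≫ pullback.fst (f i) ι₀)) ≫ f i := by
          simp only [Category.assoc, h1]
        rw [h2, hw2 i, hv i, hc i]
      obtain ⟨z, hz, -⟩ := glue_fpqc _ (cover_fst f hf x)
        (fun i => v i ≫ ei i ≫ pullback.snd (f i) ι₀)
        (fun k l V gk gl hkl => by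
          apply (cancel_mono ι₀).1
          show (gk ≫ v k ≫ ei k ≫ pullback.snd (f k) ι₀) ≫ ι₀ =
            (gl ≫ v l ≫ ei l ≫ pullback.snd (f l) ι₀) ≫ ι₀
          rw [Category.assoc gk, Category.assoc gl, hzz k, hzz l, ← Category.assoc,
            ← Category.assoc, hkl])
      refine ⟨z, ?_⟩
      refine jointly_epi_of_fpqc _ (cover_fst f hf x) _ _ (fun i => ?_)
      rw [← Category.assoc, hz i, hzz i]
  refine ⟨Z₀, ι₀, hmono, hpts, fun i => ?_⟩
  refine ⟨ei i ≫ pullback.snd (f i) ι₀, ?_⟩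
  have hcs : CommSq (Z i).hom (ei i ≫ pullback.snd (f i) ι₀) (f i) ι₀ := by
    refine ⟨?_⟩
    rw [Category.assoc, ← pullback.condition, ← Category.assoc, hw2 i]
  exact (IsPullback.of_iso_pullback hcs
    ⟨ei i, eh i, hinv2 i, hinv1 i⟩ (hw2 i) rfl).flip

end ADL

/-- Descent data consisting of closed subschemes are effective. -/
theorem isEffective_of_isClosedImmersion {Y₀ : Scheme.{u}} {ι : Type u} {X : ι → Scheme.{u}}
    (f : ∀ i, X i ⟶ Y₀) (hf : Presieve.ofArrows X f ∈ Scheme.fpqcPrecoverage Y₀)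
    (D : SchDDFam f) (hD : ∀ i, IsClosedImmersion (D.obj i).hom) : D.IsEffective :=
  DescRed.isEffective_of_affineHom_fam f hf D (fun i => by haveI := hD i; infer_instance)

/-- Descent data consisting of open subschemes are effective. -/
theorem isEffective_of_isOpenImmersion {Y₀ : Scheme.{u}} {ι : Type u} {X : ι → Scheme.{u}}
    (f : ∀ i, X i ⟶ Y₀) (hf : Presieve.ofArrows X f ∈ Scheme.fpqcPrecoverage Y₀)
    (D : SchDDFam f) (hD : ∀ i, IsOpenImmersion (D.obj i).hom) : D.IsEffective := by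
  have hcomp : ∀ i, (D.obj i).hom ≫ f i = ((D.obj i).hom ≫ f i) ≫ 𝟙 Y₀ := fun i =>
    (Category.comp_id _).symm
  let jl : ∀ i, (D.obj i).left ⟶ pullback (f i) (𝟙 Y₀) := fun i =>
    pullback.lift (D.obj i).hom ((D.obj i).hom ≫ f i) (hcomp i)
  have hj1 : ∀ i, jl i ≫ pullback.fst (f i) (𝟙 Y₀) = (D.obj i).hom := fun i =>
    pullback.lift_fst _ _ _
  have hj2 : ∀ i, jl i ≫ pullback.snd (f i) (𝟙 Y₀) = (D.obj i).hom ≫ f i := fun i =>
    pullback.lift_snd _ _ _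
  let jh : ∀ i, D.obj i ⟶ ((toDDFam f).obj (Over.mk (𝟙 Y₀))).obj i := fun i =>
    Over.homMk (jl i) (hj1 i)
  refine DescSec.isEffective_of_open_sub hf (D := (toDDFam f).obj (Over.mk (𝟙 Y₀))) (D' := D)
    ⟨jh, ?_⟩ ?_ ⟨Over.mk (𝟙 Y₀), ⟨Iso.refl _⟩⟩
  · intro T i j x₀ x₁ h v w hw
    have e1 : (((toDDFam f).obj (Over.mk (𝟙 Y₀))).φ x₀ x₁ h w).1 ≫ pullback.fst (f j) (𝟙 Y₀) =
        x₁ := (((toDDFam f).obj (Over.mk (𝟙 Y₀))).φ x₀ x₁ h w).2
    have e2 : (D.φ x₀ x₁ h v).1 ≫ (D.obj j).hom = x₁ := (D.φ x₀ x₁ h v).2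
    have e3 : (((toDDFam f).obj (Over.mk (𝟙 Y₀))).φ x₀ x₁ h w).1 ≫ pullback.snd (f j) (𝟙 Y₀) =
        w.1 ≫ pullback.snd (f i) (𝟙 Y₀) := pullback.lift_snd _ _ _
    have e4 : v.1 ≫ (D.obj i).hom = x₀ := v.2
    have hw' : w.1 = v.1 ≫ jl i := hw
    apply pullback.hom_ext
    · show (((toDDFam f).obj (Over.mk (𝟙 Y₀))).φ x₀ x₁ h w).1 ≫ pullback.fst (f j) (𝟙 Y₀) =
        ((D.φ x₀ x₁ h v).1 ≫ jl j) ≫ pullback.fst (f j) (𝟙 Y₀)
      rw [e1, Category.assoc, hj1, e2]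
    · show (((toDDFam f).obj (Over.mk (𝟙 Y₀))).φ x₀ x₁ h w).1 ≫ pullback.snd (f j) (𝟙 Y₀) =
        ((D.φ x₀ x₁ h v).1 ≫ jl j) ≫ pullback.snd (f j) (𝟙 Y₀)
      have r1 : ((D.φ x₀ x₁ h v).1 ≫ jl j) ≫ pullback.snd (f j) (𝟙 Y₀) = x₁ ≫ f j := by
        rw [Category.assoc, hj2, ← Category.assoc, e2]
      have r2 : (v.1 ≫ jl i) ≫ pullback.snd (f i) (𝟙 Y₀) = x₀ ≫ f i := by
        rw [Category.assoc, hj2, ← Category.assoc, e4]
      have r3 : (((toDDFam f).obj (Over.mk (𝟙 Y₀))).φ x₀ x₁ h w).1 ≫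
          pullback.snd (f j) (𝟙 Y₀) = (v.1 ≫ jl i) ≫ pullback.snd (f i) (𝟙 Y₀) := by
        rw [e3, hw']
        rfl
      exact r3.trans (r2.trans (h.trans r1.symm))
  · intro i
    haveI := hD i
    haveI : IsOpenImmersion (jl i ≫ pullback.fst (f i) (𝟙 Y₀)) := by
      rw [hj1]; infer_instance
    haveI : IsOpenImmersion (pullback.fst (f i) (𝟙 Y₀)) :=
      MorphismProperty.pullback_fst (P := @IsOpenImmersion) (f i) (𝟙 Y₀)
        (inferInstance : IsOpenImmersion (𝟙 Y₀))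
    show IsOpenImmersion (jl i)
    exact IsOpenImmersion.of_comp (jl i) (pullback.fst (f i) (𝟙 Y₀))

/-- Descent of a property of morphisms along an fpqc covering family, from arbitrary pullback
squares. -/
theorem descends_squares (P' : MorphismProperty Scheme.{u}) [IsZariskiLocalAtTarget P']
    [P'.IsStableUnderBaseChange] [P'.DescendsAlong (@Surjective ⊓ @Flat ⊓ @QuasiCompact)]
    {X B : Scheme.{u}} (h : X ⟶ B) {ι : Type u} {Y : ι → Scheme.{u}} (c : ∀ i, Y i ⟶ B)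
    (hc : Presieve.ofArrows Y c ∈ Scheme.fpqcPrecoverage B)
    (H : ∀ i, ∃ (V : Scheme.{u}) (a : V ⟶ X) (b : V ⟶ Y i), IsPullback a b h (c i) ∧ P' b) :
    P' h := by
  refine Groth.Agent.S18858.descends_fpqc_family P' h _ hc ?_
  rintro T₀ g ⟨i⟩
  obtain ⟨V, a, b, hsq, hb⟩ := H i
  have h1 : hsq.isoPullback.hom ≫ pullback.snd h (c i) = b := hsq.isoPullback_hom_snd
  rw [← P'.cancel_left_of_respectsIso hsq.isoPullback.hom, h1]
  exact hb

end Groth.Agent.Helper2.QuotPts
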