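import Mathlib
import Groth.Agent.Lib.Helper2.GrpQ.QuotPts1
import Groth.Agent.Lib.Helper2.GrpQ.QuotPts2
import Groth.Agent.Lib.Helper2.AlgSp.Basic
import Groth.Agent.Lib.Helper2.AlgSp.Fpqc
import Groth.Agent.S0079

/-!
# The subscheme of `U ×_S T` attached to a section of the fpqc quotient sheaf `U/R` (helper2)
-/

set_option backward.isDefEq.respectTransparency.types false
set_option autoImplicit false
set_option synthInstance.maxHeartbeats 400000
set_option maxHeartbeats 4000000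
set_option linter.style.haveILetI false
set_option linter.unusedSectionVars false
set_option linter.unusedVariables false
set_option linter.unusedSimpArgs false
set_option linter.unnecessarySimpa false

namespace Groth.Agent.Helper2.QuotPts
open CategoryTheory CategoryTheory.Limits AlgebraicGeometry Opposite AlgSp Desc
  MonoidalCategory CartesianMonoidalCategory
open Groth.Agent.Helper2.QuotEffK Groth.Agent.Lib.Helper5.DescFam
universe u

section App

variable {S : Scheme.{u}} {R U : Over S} (s t : R ⟶ U) {T : Over S}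
  (σ' : (yonK Kq).obj T ⟶ QuotSh.quot Kq s t)

/-- the condition on scheme-level points of `U ×_S T` -/
def CS ⦃W : Scheme.{u}⦄ (x : W ⟶ (U ⊗ T).left) : Prop :=
  Cond s t σ' ((Over.homMk x rfl : Over.mk (x ≫ (U ⊗ T).hom) ⟶ U ⊗ T) ≫ fst U T)
    ((Over.homMk x rfl : Over.mk (x ≫ (U ⊗ T).hom) ⟶ U ⊗ T) ≫ snd U T)

theorem CS_iff {W : Over S} (w : W ⟶ U ⊗ T) :
    CS s t σ' w.left ↔ Cond s t σ' (w ≫ fst U T) (w ≫ snd U T) := by
  have hW : w.left ≫ (U ⊗ T).hom = W.hom := Over.w w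
  let e : W ⟶ Over.mk (w.left ≫ (U ⊗ T).hom) :=
    Over.homMk (𝟙 W.left) ((Category.id_comp _).trans hW)
  let e' : Over.mk (w.left ≫ (U ⊗ T).hom) ⟶ W :=
    Over.homMk (𝟙 W.left) ((Category.id_comp _).trans hW.symm)
  have he : e ≫ (Over.homMk w.left rfl : Over.mk (w.left ≫ (U ⊗ T).hom) ⟶ U ⊗ T) = w :=
    Over.OverMorphism.ext (Category.id_comp _)
  have he' : e' ≫ w = (Over.homMk w.left rfl : Over.mk (w.left ≫ (U ⊗ T).hom) ⟶ U ⊗ T) :=
    Over.OverMorphism.ext (Category.id_comp _)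
  constructor
  · intro h
    have h1 := Cond_nat s t σ' e h
    rw [← Category.assoc, ← Category.assoc, he] at h1
    exact h1
  · intro h
    have h1 := Cond_nat s t σ' e' h
    rw [← Category.assoc, ← Category.assoc, he'] at h1
    exact h1

theorem CS_nat ⦃W W' : Scheme.{u}⦄ (g : W' ⟶ W) (x : W ⟶ (U ⊗ T).left) (h : CS s t σ' x) :
    CS s t σ' (g ≫ x) := by
  let go : Over.mk ((g ≫ x) ≫ (U ⊗ T).hom) ⟶ Over.mk (x ≫ (U ⊗ T).hom) :=
    Over.homMk g (Category.assoc _ _ _).symm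
  have hgo : go ≫ (Over.homMk x rfl : Over.mk (x ≫ (U ⊗ T).hom) ⟶ U ⊗ T) =
      (Over.homMk (g ≫ x) rfl : Over.mk ((g ≫ x) ≫ (U ⊗ T).hom) ⟶ U ⊗ T) :=
    Over.OverMorphism.ext rfl
  have h1 := Cond_nat s t σ' go h
  rw [← Category.assoc, ← Category.assoc, hgo] at h1
  exact h1

theorem CS_loc ⦃W : Scheme.{u}⦄ (x : W ⟶ (U ⊗ T).left) (κ : Type u) (V : κ → Scheme.{u})
    (π : ∀ k, V k ⟶ W) (hπ : Presieve.ofArrows V π ∈ Scheme.fpqcPrecoverage W)
    (h : ∀ k, CS s t σ' (π k ≫ x)) : CS s t σ' x := by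
  let Vo : κ → Over S := fun k => Over.mk ((π k ≫ x) ≫ (U ⊗ T).hom)
  let πo : ∀ k, Vo k ⟶ Over.mk (x ≫ (U ⊗ T).hom) := fun k =>
    Over.homMk (π k) (Category.assoc _ _ _).symm
  refine Cond_loc s t σ' _ _ Vo πo hπ (fun k => ?_)
  have hgo : πo k ≫ (Over.homMk x rfl : Over.mk (x ≫ (U ⊗ T).hom) ⟶ U ⊗ T) =
      (Over.homMk (π k ≫ x) rfl : Over.mk ((π k ≫ x) ≫ (U ⊗ T).hom) ⟶ U ⊗ T) :=
    Over.OverMorphism.ext rfl
  rw [← Category.assoc, ← Category.assoc, hgo]
  exact h k

variable (U) in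
/-- the members of the covering family of `U ×_S T` induced by a family `c i : Y i ⟶ T` -/
noncomputable abbrev Xs {ι : Type u} {Y : ι → Scheme.{u}} (c : ∀ i, Y i ⟶ T.left) (i : ι) :
    Scheme.{u} := pullback (snd U T).left (c i)

variable (U) in
noncomputable abbrev fX {ι : Type u} {Y : ι → Scheme.{u}} (c : ∀ i, Y i ⟶ T.left) (i : ι) :
    Xs U c i ⟶ (U ⊗ T).left := pullback.fst (snd U T).left (c i)

variable (U) in
noncomputable abbrev gX {ι : Type u} {Y : ι → Scheme.{u}} (c : ∀ i, Y i ⟶ T.left) (i : ι) :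
    Xs U c i ⟶ Y i := pullback.snd (snd U T).left (c i)

variable {ι : Type u} {Y : ι → Scheme.{u}} (c : ∀ i, Y i ⟶ T.left)
  (u : ∀ i, Over.mk (c i ≫ T.hom) ⟶ U)

variable (U) in
lemma gX_w (i : ι) : gX U c i ≫ (c i ≫ T.hom) = fX U c i ≫ (U ⊗ T).hom := by
  have h1 : fX U c i ≫ (snd U T).left = gX U c i ≫ c i := pullback.condition
  have h2 : (snd U T).left ≫ T.hom = (U ⊗ T).hom := Over.w (snd U T)
  rw [← Category.assoc, ← h1, Category.assoc, h2]

variable (U) in
noncomputable abbrev Xo (i : ι) : Over S := Over.mk (fX U c i ≫ (U ⊗ T).hom)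

variable (U) in
noncomputable abbrev fo (i : ι) : Xo U c i ⟶ U ⊗ T := Over.homMk (fX U c i) rfl

variable (U) in
noncomputable abbrev go (i : ι) : Xo U c i ⟶ Over.mk (c i ≫ T.hom) :=
  Over.homMk (gX U c i) (gX_w U c i)

noncomputable abbrev bo (i : ι) : Over.mk (c i ≫ T.hom) ⟶ T := Over.homMk (c i) rfl

variable (U) in
lemma fo_snd (i : ι) : fo U c i ≫ snd U T = go U c i ≫ bo c i :=
  Over.OverMorphism.ext pullback.condition

/-- the map `U ×_S Y i ⟶ U ×_S U`, `(a, y) ↦ (a, u i y)` -/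
noncomputable def mo (i : ι) : Xo U c i ⟶ U ⊗ U := lift (fo U c i ≫ fst U T) (go U c i ≫ u i)

lemma mo_fst (i : ι) : mo c u i ≫ fst U U = fo U c i ≫ fst U T := lift_fst _ _

lemma mo_snd (i : ι) : mo c u i ≫ snd U U = go U c i ≫ u i := lift_snd _ _

/-- the graph morphism `R ⟶ U ×_S U` on underlying schemes -/
noncomputable abbrev Lm : R.left ⟶ (U ⊗ U).left := (lift t s).left

noncomputable abbrev mm (i : ι) : Xs U c i ⟶ (U ⊗ U).left := (mo c u i).left

/-- the local pieces of the subscheme attached to the section -/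
noncomputable abbrev Zs (i : ι) : Over (Xs U c i) := Over.mk (pullback.snd (Lm s t) (mm c u i))

theorem hZ_app (hE : IsEqvRel s t) (hu : ∀ i, Cond s t σ' (u i) (bo c i)) (i : ι)
    ⦃W : Scheme.{u}⦄ (x : W ⟶ Xs U c i) :
    (∃ v : W ⟶ (Zs s t c u i).left, v ≫ (Zs s t c u i).hom = x) ↔ CS s t σ' (x ≫ fX U c i) := by
  let Wo : Over S := Over.mk ((x ≫ fX U c i) ≫ (U ⊗ T).hom)
  let xo : Wo ⟶ Xo U c i := Over.homMk x (Category.assoc _ _ _).symm
  have hx1 : xo ≫ fo U c i = (Over.homMk (x ≫ fX U c i) rfl : Wo ⟶ U ⊗ T) :=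
    Over.OverMorphism.ext rfl
  have h2 : CS s t σ' (x ≫ fX U c i) ↔ ∃ r : Wo ⟶ R, r ≫ t = xo ≫ fo U c i ≫ fst U T ∧
      r ≫ s = (xo ≫ go U c i) ≫ u i := by
    rw [← Cond_rel s t σ' hE (hu i) (xo ≫ go U c i) (xo ≫ fo U c i ≫ fst U T)]
    have ea : (Over.homMk (x ≫ fX U c i) rfl : Wo ⟶ U ⊗ T) ≫ fst U T =
        xo ≫ fo U c i ≫ fst U T := by rw [← hx1, Category.assoc]
    have eb : (Over.homMk (x ≫ fX U c i) rfl : Wo ⟶ U ⊗ T) ≫ snd U T =
        (xo ≫ go U c i) ≫ bo c i := by rw [← hx1, Category.assoc, fo_snd, Category.assoc]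
    show Cond s t σ' ((Over.homMk (x ≫ fX U c i) rfl : Wo ⟶ U ⊗ T) ≫ fst U T)
      ((Over.homMk (x ≫ fX U c i) rfl : Wo ⟶ U ⊗ T) ≫ snd U T) ↔ _
    rw [ea, eb]
  rw [h2]
  constructor
  · rintro ⟨v, hv⟩
    have hv' : v ≫ pullback.snd (Lm s t) (mm c u i) = x := hv
    have hcond : (v ≫ pullback.fst (Lm s t) (mm c u i)) ≫ Lm s t = x ≫ mm c u i := by
      rw [Category.assoc, pullback.condition, ← Category.assoc, hv']
    have hr : (v ≫ pullback.fst (Lm s t) (mm c u i)) ≫ R.hom = Wo.hom := by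
      have e1 : Lm s t ≫ (U ⊗ U).hom = R.hom := Over.w (lift t s)
      have e2 : mm c u i ≫ (U ⊗ U).hom = (Xo U c i).hom := Over.w (mo c u i)
      rw [← e1, ← Category.assoc, hcond, Category.assoc, e2]
      exact (Category.assoc _ _ _).symm
    let r : Wo ⟶ R := Over.homMk (v ≫ pullback.fst (Lm s t) (mm c u i)) hr
    have hrm : r ≫ lift t s = xo ≫ mo c u i := Over.OverMorphism.ext hcond
    refine ⟨r, ?_, ?_⟩
    · have h3 : (r ≫ lift t s) ≫ fst U U = r ≫ t := by rw [Category.assoc, lift_fst]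
      have h4 : (xo ≫ mo c u i) ≫ fst U U = xo ≫ fo U c i ≫ fst U T := by
        rw [Category.assoc, mo_fst]
      rw [← h3, hrm, h4]
    · have h3 : (r ≫ lift t s) ≫ snd U U = r ≫ s := by rw [Category.assoc, lift_snd]
      have h4 : (xo ≫ mo c u i) ≫ snd U U = (xo ≫ go U c i) ≫ u i := by
        rw [Category.assoc, mo_snd, Category.assoc]
      rw [← h3, hrm, h4]
  · rintro ⟨r, hr1, hr2⟩
    have hrm : r ≫ lift t s = xo ≫ mo c u i := by
      apply CartesianMonoidalCategory.hom_ext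
      · rw [Category.assoc, lift_fst, Category.assoc, mo_fst]
        exact hr1
      · rw [Category.assoc, lift_snd, Category.assoc, mo_snd, ← Category.assoc]
        exact hr2
    have hrm' : r.left ≫ Lm s t = x ≫ mm c u i := congrArg (fun m => m.left) hrm
    exact ⟨pullback.lift r.left x hrm', pullback.lift_snd _ _ _⟩

/-- `Z i ⟶ Y i` is the base change of `s` along `u i`. -/
theorem bsq (i : ι) : IsPullback (pullback.fst (Lm s t) (mm c u i))
    ((Zs s t c u i).hom ≫ gX U c i) s.left (u i).left := by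
  have hL1 : Lm s t ≫ (fst U U).left = t.left := congrArg (fun m => m.left) (lift_fst t s)
  have hL2 : Lm s t ≫ (snd U U).left = s.left := congrArg (fun m => m.left) (lift_snd t s)
  have hm1 : mm c u i ≫ (fst U U).left = fX U c i ≫ (fst U T).left :=
    congrArg (fun m => m.left) (mo_fst c u i)
  have hm2 : mm c u i ≫ (snd U U).left = gX U c i ≫ (u i).left :=
    congrArg (fun m => m.left) (mo_snd c u i)
  have hcond : pullback.fst (Lm s t) (mm c u i) ≫ Lm s t =
      pullback.snd (Lm s t) (mm c u i) ≫ mm c u i := pullback.condition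
  have hX : fX U c i ≫ (snd U T).left = gX U c i ≫ c i := pullback.condition
  have hZh : (Zs s t c u i).hom = pullback.snd (Lm s t) (mm c u i) := rfl
  rw [hZh]
  have key1 : ∀ {A : Scheme.{u}} (l : A ⟶ pullback (Lm s t) (mm c u i)),
      ((l ≫ pullback.snd (Lm s t) (mm c u i)) ≫ fX U c i) ≫ (fst U T).left =
        (l ≫ pullback.fst (Lm s t) (mm c u i)) ≫ t.left := by
    intro A l
    rw [Category.assoc, Category.assoc, ← hm1, ← hL1, Category.assoc, ← Category.assoc
      (pullback.fst (Lm s t) (mm c u i)), hcond, Category.assoc]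
  have key2 : ∀ {A : Scheme.{u}} (l : A ⟶ pullback (Lm s t) (mm c u i)),
      ((l ≫ pullback.snd (Lm s t) (mm c u i)) ≫ fX U c i) ≫ (snd U T).left =
        (l ≫ pullback.snd (Lm s t) (mm c u i) ≫ gX U c i) ≫ c i := by
    intro A l
    rw [Category.assoc, Category.assoc, hX, Category.assoc, Category.assoc]
  refine Groth.Agent.Helper2.AlgSpBasic.isPullback_of_existsUnique ?_ ?_ ?_
  · have w1 : pullback.fst (Lm s t) (mm c u i) ≫ s.left =
        pullback.fst (Lm s t) (mm c u i) ≫ Lm s t ≫ (snd U U).left := by rw [hL2]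
    have w2 : pullback.fst (Lm s t) (mm c u i) ≫ Lm s t ≫ (snd U U).left =
        pullback.snd (Lm s t) (mm c u i) ≫ mm c u i ≫ (snd U U).left := by
      rw [← Category.assoc, hcond, Category.assoc]
    have w3 : pullback.snd (Lm s t) (mm c u i) ≫ mm c u i ≫ (snd U U).left =
        (pullback.snd (Lm s t) (mm c u i) ≫ gX U c i) ≫ (u i).left := by
      rw [hm2, Category.assoc]
    exact w1.trans (w2.trans w3)
  · intro A α β hαβ
    have hU : (α ≫ t.left) ≫ U.hom = (β ≫ c i) ≫ T.hom := by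
      have e1 : t.left ≫ U.hom = R.hom := Over.w t
      have e2 : s.left ≫ U.hom = R.hom := Over.w s
      have e3 : (u i).left ≫ U.hom = c i ≫ T.hom := Over.w (u i)
      rw [Category.assoc, e1, ← e2, ← Category.assoc, hαβ, Category.assoc, e3, Category.assoc]
    obtain ⟨y₀, hy1, hy2⟩ : ∃ y₀ : A ⟶ (U ⊗ T).left, y₀ ≫ (fst U T).left = α ≫ t.left ∧
        y₀ ≫ (snd U T).left = β ≫ c i :=
      ⟨pullback.lift (α ≫ t.left) (β ≫ c i) hU, pullback.lift_fst _ _ _,
        pullback.lift_snd _ _ _⟩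
    obtain ⟨x, hx1, hx2⟩ : ∃ x : A ⟶ Xs U c i, x ≫ fX U c i = y₀ ∧ x ≫ gX U c i = β :=
      ⟨pullback.lift y₀ β hy2, pullback.lift_fst _ _ _, pullback.lift_snd _ _ _⟩
    have hxm : α ≫ Lm s t = x ≫ mm c u i := by
      refine Over.tensorObj_ext _ _ ?_ ?_
      · show (α ≫ Lm s t) ≫ (fst U U).left = (x ≫ mm c u i) ≫ (fst U U).left
        rw [Category.assoc, hL1, Category.assoc, hm1, ← Category.assoc, hx1, hy1]
      · show (α ≫ Lm s t) ≫ (snd U U).left = (x ≫ mm c u i) ≫ (snd U U).left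
        rw [Category.assoc, hL2, Category.assoc, hm2, ← Category.assoc, hx2, hαβ]
    refine ⟨pullback.lift α x hxm, pullback.lift_fst _ _ _, ?_⟩
    rw [← Category.assoc, pullback.lift_snd, hx2]
  · intro A l l' h1 h2
    apply pullback.hom_ext h1
    apply pullback.hom_ext
    · refine Over.tensorObj_ext _ _ ?_ ?_
      · show ((l ≫ pullback.snd (Lm s t) (mm c u i)) ≫ fX U c i) ≫ (fst U T).left =
          ((l' ≫ pullback.snd (Lm s t) (mm c u i)) ≫ fX U c i) ≫ (fst U T).left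
        rw [key1 l, key1 l', h1]
      · show ((l ≫ pullback.snd (Lm s t) (mm c u i)) ≫ fX U c i) ≫ (snd U T).left =
          ((l' ≫ pullback.snd (Lm s t) (mm c u i)) ≫ fX U c i) ≫ (snd U T).left
        rw [key2 l, key2 l', h2]
    · show (l ≫ pullback.snd (Lm s t) (mm c u i)) ≫ gX U c i =
        (l' ≫ pullback.snd (Lm s t) (mm c u i)) ≫ gX U c i
      rw [Category.assoc, Category.assoc]
      exact h2

end App

end Groth.Agent.Helper2.QuotPts
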