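import Mathlib
import Groth.Agent.Lib.Helper2.GrpQ.QuotPts3
import Groth.Agent.Lib.Helper2.Desc.AffEff

/-!
# The `T`-points of the fpqc quotient sheaf `U/R` as subschemes of `U ×_S T` (helper2)

For an equivalence relation `s, t : R ⇉ U` of schemes over `S` with `s` flat, surjective and
quasi-compact and graph `(t, s)` having a property `P` of monomorphisms which descends along fpqc
coverings and for which descent is effective (closed immersions, open immersions): every section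
of the fpqc quotient sheaf `U/R` over `T` comes from a unique `P`-subscheme of `U ×_S T` which is
`R`-stable and fpqc over `T` with `R`-related fibres.
-/

set_option backward.isDefEq.respectTransparency.types false
set_option autoImplicit false
set_option synthInstance.maxHeartbeats 400000
set_option maxHeartbeats 4000000
set_option linter.style.haveILetI false
set_option linter.unusedSectionVars false
set_option linter.unusedVariables false
set_option linter.unusedSimpArgs false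
set_option linter.unnecessarySimpa false

namespace Groth.Agent.Helper2.QuotPts
open CategoryTheory CategoryTheory.Limits AlgebraicGeometry Opposite AlgSp Desc
  MonoidalCategory CartesianMonoidalCategory
open Groth.Agent.Helper2.QuotEffK Groth.Agent.Lib.Helper5.DescFam
universe u

section Main

variable {S : Scheme.{u}} {R U : Over S} (s t : R ⟶ U) {T : Over S}
  (σ' : (yonK Kq).obj T ⟶ QuotSh.quot Kq s t)

theorem part1 (P : MorphismProperty Scheme.{u}) [IsZariskiLocalAtTarget P]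
    [P.IsStableUnderBaseChange] [P.DescendsAlong (@Surjective ⊓ @Flat ⊓ @QuasiCompact)]
    (hPmono : ∀ ⦃X Y : Scheme.{u}⦄ (f : X ⟶ Y), P f → Mono f)
    (heffP : ∀ {Y₀ : Scheme.{u}} {ι : Type u} {X : ι → Scheme.{u}} (f : ∀ i, X i ⟶ Y₀),
      Presieve.ofArrows X f ∈ Scheme.fpqcPrecoverage Y₀ → ∀ D : SchDDFam f,
      (∀ i, P (D.obj i).hom) → D.IsEffective)
    (hE : IsEqvRel s t) [Flat s.left] [Surjective s.left] [QuasiCompact s.left]
    (hc : P (lift t s).left) :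
    ∃ (Z : Over S) (i : Z ⟶ U ⊗ T), P i.left ∧
      (∀ (W : Over S) (w : W ⟶ U ⊗ T),
        (∃ z : W ⟶ Z, z ≫ i = w) ↔ Cond s t σ' (w ≫ fst U T) (w ≫ snd U T)) ∧
      Flat (i ≫ snd U T).left ∧ Surjective (i ≫ snd U T).left ∧
      QuasiCompact (i ≫ snd U T).left := by
  obtain ⟨ι, Y, c, u, hcov, hu⟩ := exists_lifts s t σ'
  have hfX : Presieve.ofArrows (fun i => Xs U c i) (fun i => fX U c i) ∈
      Scheme.fpqcPrecoverage (U ⊗ T).left := cover_fst c hcov (snd U T).left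
  have hPZ : ∀ i, P (Zs s t c u i).hom := fun i => P.pullback_snd _ _ hc
  haveI : ∀ i, Mono (Zs s t c u i).hom := fun i => hPmono _ (hPZ i)
  have hZ := hZ_app s t σ' c u hE hu
  obtain ⟨Z₀, ι₀, hmono, hpts, hsq⟩ := exists_sub (fun i => fX U c i) (CS s t σ')
    (fun i => Zs s t c u i) hZ hfX (CS_nat s t σ') (CS_loc s t σ') (heffP _ hfX _ hPZ)
  have hPι : P ι₀ := descends_squares P ι₀ (fun i => fX U c i) hfX (fun i => by
    obtain ⟨a, ha⟩ := hsq i
    exact ⟨_, a, _, ha, hPZ i⟩)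
  refine ⟨Over.mk (ι₀ ≫ (U ⊗ T).hom), Over.homMk ι₀ rfl, hPι, ?_, ?_⟩
  · intro W w
    rw [← CS_iff s t σ' w, ← hpts w.left]
    constructor
    · rintro ⟨z, hz⟩
      exact ⟨z.left, congrArg (fun m => m.left) hz⟩
    · rintro ⟨z₀, hz₀⟩
      have hw : w.left ≫ (U ⊗ T).hom = W.hom := Over.w w
      have hz : z₀ ≫ (ι₀ ≫ (U ⊗ T).hom) = W.hom := by
        rw [← Category.assoc, hz₀, hw]
      exact ⟨Over.homMk z₀ hz, Over.OverMorphism.ext hz₀⟩
  · have hsnd : ((Over.homMk ι₀ rfl : Over.mk (ι₀ ≫ (U ⊗ T).hom) ⟶ U ⊗ T) ≫ snd U T).left =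
        ι₀ ≫ (snd U T).left := rfl
    rw [hsnd]
    have hb : ∀ (P' : MorphismProperty Scheme.{u}) [IsZariskiLocalAtTarget P']
        [P'.IsStableUnderBaseChange] [P'.DescendsAlong (@Surjective ⊓ @Flat ⊓ @QuasiCompact)],
        P' s.left → P' (ι₀ ≫ (snd U T).left) := by
      intro P' _ _ _ hs
      refine descends_squares P' _ c hcov (fun i => ?_)
      obtain ⟨a, ha⟩ := hsq i
      exact ⟨_, a, _, ha.paste_vert (IsPullback.of_hasPullback (snd U T).left (c i)),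
        P'.of_isPullback (bsq s t c u i) hs⟩
    haveI := Groth.Agent.S0079.result.{u}
    exact ⟨hb @Flat inferInstance, hb @Surjective inferInstance, hb @QuasiCompact inferInstance⟩

theorem props_of_pts (hE : IsEqvRel s t) {Z : Over S} (i : Z ⟶ U ⊗ T)
    (hpts : ∀ (W : Over S) (w : W ⟶ U ⊗ T),
      (∃ z : W ⟶ Z, z ≫ i = w) ↔ Cond s t σ' (w ≫ fst U T) (w ≫ snd U T)) :
    (∀ (T' : Over S) (r : T' ⟶ R ⊗ T),
        (∃ z : T' ⟶ Z, z ≫ i = r ≫ (s ▷ T)) ↔ (∃ z : T' ⟶ Z, z ≫ i = r ≫ (t ▷ T))) ∧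
    (∀ (T' : Over S) (z₁ z₂ : T' ⟶ Z), z₁ ≫ i ≫ snd U T = z₂ ≫ i ≫ snd U T →
        ∃ r : T' ⟶ R, r ≫ s = z₁ ≫ i ≫ fst U T ∧ r ≫ t = z₂ ≫ i ≫ fst U T) ∧
    Cond s t σ' (i ≫ fst U T) (i ≫ snd U T) := by
  refine ⟨fun T' r => ?_, fun T' z₁ z₂ h => ?_, ?_⟩
  · rw [hpts, hpts]
    have e1 : (r ≫ (s ▷ T)) ≫ fst U T = (r ≫ fst R T) ≫ s := by
      rw [Category.assoc, whiskerRight_fst, Category.assoc]
    have e2 : (r ≫ (s ▷ T)) ≫ snd U T = r ≫ snd R T := by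
      rw [Category.assoc, whiskerRight_snd]
    have e3 : (r ≫ (t ▷ T)) ≫ fst U T = (r ≫ fst R T) ≫ t := by
      rw [Category.assoc, whiskerRight_fst, Category.assoc]
    have e4 : (r ≫ (t ▷ T)) ≫ snd U T = r ≫ snd R T := by
      rw [Category.assoc, whiskerRight_snd]
    rw [e1, e2, e3, e4]
    exact Cond_st s t σ' _ _
  · have h1 : Cond s t σ' ((z₁ ≫ i) ≫ fst U T) ((z₁ ≫ i) ≫ snd U T) :=
      (hpts _ _).1 ⟨z₁, rfl⟩
    have h2 : Cond s t σ' ((z₂ ≫ i) ≫ fst U T) ((z₂ ≫ i) ≫ snd U T) :=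
      (hpts _ _).1 ⟨z₂, rfl⟩
    have h3 : (z₁ ≫ i) ≫ snd U T = (z₂ ≫ i) ≫ snd U T := by
      rw [Category.assoc, Category.assoc]; exact h
    rw [h3] at h1
    obtain ⟨r, hr1, hr2⟩ := Cond_rel2 s t σ' hE h2 h1
    exact ⟨r, by rw [hr2, Category.assoc], by rw [hr1, Category.assoc]⟩
  · exact (hpts Z i).1 ⟨𝟙 Z, Category.id_comp _⟩

theorem pts_of_props (hE : IsEqvRel s t) {Z : Over S} (i : Z ⟶ U ⊗ T) [Mono i.left]
    (ha : ∀ (T' : Over S) (r : T' ⟶ R ⊗ T),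
        (∃ z : T' ⟶ Z, z ≫ i = r ≫ (s ▷ T)) ↔ (∃ z : T' ⟶ Z, z ≫ i = r ≫ (t ▷ T)))
    [Flat (i ≫ snd U T).left] [Surjective (i ≫ snd U T).left]
    [QuasiCompact (i ≫ snd U T).left]
    (hd : Cond s t σ' (i ≫ fst U T) (i ≫ snd U T))
    (W : Over S) (w : W ⟶ U ⊗ T) :
    (∃ z : W ⟶ Z, z ≫ i = w) ↔ Cond s t σ' (w ≫ fst U T) (w ≫ snd U T) := by
  constructor
  · rintro ⟨z, rfl⟩
    have h1 := Cond_nat s t σ' z hd
    rw [← Category.assoc, ← Category.assoc] at h1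
    exact h1
  · intro hw
    obtain ⟨b, hb⟩ : ∃ b : W ⟶ T, b = w ≫ snd U T := ⟨_, rfl⟩
    obtain ⟨p, hp⟩ : ∃ p : Z ⟶ T, p = i ≫ snd U T := ⟨_, rfl⟩
    haveI : Flat p.left := by rw [hp]; infer_instance
    haveI : Surjective p.left := by rw [hp]; infer_instance
    haveI : QuasiCompact p.left := by rw [hp]; infer_instance
    rw [← hb] at hw
    rw [← hp] at hd
    obtain ⟨g₀, hg₀⟩ : ∃ g₀ : pullback b.left p.left ⟶ W.left, g₀ = pullback.fst b.left p.left :=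
      ⟨_, rfl⟩
    obtain ⟨z₀, hz₀⟩ : ∃ z₀ : pullback b.left p.left ⟶ Z.left, z₀ = pullback.snd b.left p.left :=
      ⟨_, rfl⟩
    have hcnd : g₀ ≫ b.left = z₀ ≫ p.left := by rw [hg₀, hz₀]; exact pullback.condition
    haveI : Flat g₀ := by
      rw [hg₀]; exact MorphismProperty.pullback_fst (P := @Flat) _ _ inferInstance
    haveI : Surjective g₀ := by
      rw [hg₀]; exact MorphismProperty.pullback_fst (P := @Surjective) _ _ inferInstance
    haveI : QuasiCompact g₀ := by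
      rw [hg₀]; exact MorphismProperty.pullback_fst (P := @QuasiCompact) _ _ inferInstance
    have hzZ : z₀ ≫ Z.hom = g₀ ≫ W.hom := by
      have e1 : p.left ≫ T.hom = Z.hom := Over.w p
      have e2 : b.left ≫ T.hom = W.hom := Over.w b
      rw [← e1, ← e2, ← Category.assoc, ← Category.assoc, hcnd]
    let W' : Over S := Over.mk (g₀ ≫ W.hom)
    let g : W' ⟶ W := Over.homMk g₀ rfl
    let z' : W' ⟶ Z := Over.homMk z₀ hzZ
    have hgz : g ≫ b = z' ≫ p := Over.OverMorphism.ext hcnd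
    have h1 : Cond s t σ' (g ≫ w ≫ fst U T) (g ≫ b) := Cond_nat s t σ' g hw
    have h2 : Cond s t σ' (z' ≫ i ≫ fst U T) (z' ≫ p) := Cond_nat s t σ' z' hd
    rw [← hgz] at h2
    obtain ⟨r, hr1, hr2⟩ := Cond_rel2 s t σ' hE h1 h2
    have hρs : lift r (g ≫ b) ≫ (s ▷ T) = z' ≫ i := by
      apply CartesianMonoidalCategory.hom_ext
      · rw [Category.assoc, whiskerRight_fst, lift_fst_assoc, hr2, Category.assoc]
      · rw [Category.assoc, whiskerRight_snd, lift_snd, hgz, hp, Category.assoc]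
    have hρt : lift r (g ≫ b) ≫ (t ▷ T) = g ≫ w := by
      apply CartesianMonoidalCategory.hom_ext
      · rw [Category.assoc, whiskerRight_fst, lift_fst_assoc, hr1, Category.assoc]
      · rw [Category.assoc, whiskerRight_snd, lift_snd, hb, Category.assoc]
    obtain ⟨z'', hz''⟩ := (ha W' (lift r (g ≫ b))).1 ⟨z', hρs.symm⟩
    rw [hρt] at hz''
    have hz''l : z''.left ≫ i.left = g₀ ≫ w.left := congrArg (fun m => m.left) hz''
    have hcov := Groth.Agent.Helper2.DescAff.single_mem_fpqc g₀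
    obtain ⟨z₁, hz₁, -⟩ := glue_fpqc (fun _ : PUnit.{u + 1} => g₀) hcov (fun _ => z''.left)
      (fun k l V gk gl hkl => by
        apply (cancel_mono i.left).1
        rw [Category.assoc, Category.assoc, hz''l, ← Category.assoc, ← Category.assoc]
        exact congrArg (· ≫ w.left) hkl)
    have hz₁' : z₁ ≫ i.left = w.left := by
      refine jointly_epi_of_fpqc (fun _ : PUnit.{u + 1} => g₀) hcov _ _ (fun k => ?_)
      rw [← Category.assoc, hz₁ k]
      exact hz''l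
    have e1 : i.left ≫ (U ⊗ T).hom = Z.hom := Over.w i
    have e2 : w.left ≫ (U ⊗ T).hom = W.hom := Over.w w
    have hzW : z₁ ≫ Z.hom = W.hom := by
      rw [← e1, ← Category.assoc, hz₁', e2]
    exact ⟨Over.homMk z₁ hzW, Over.OverMorphism.ext hz₁'⟩

end Main

/-- The `T`-points of the fpqc quotient sheaf `U/R`, for a graph with a property `P` of
monomorphisms which descends effectively along fpqc coverings. -/
theorem main (P : MorphismProperty Scheme.{u}) [IsZariskiLocalAtTarget P]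
    [P.IsStableUnderBaseChange] [P.DescendsAlong (@Surjective ⊓ @Flat ⊓ @QuasiCompact)]
    (hPmono : ∀ ⦃X Y : Scheme.{u}⦄ (f : X ⟶ Y), P f → Mono f)
    (heffP : ∀ {Y₀ : Scheme.{u}} {ι : Type u} {X : ι → Scheme.{u}} (f : ∀ i, X i ⟶ Y₀),
      Presieve.ofArrows X f ∈ Scheme.fpqcPrecoverage Y₀ → ∀ D : SchDDFam f,
      (∀ i, P (D.obj i).hom) → D.IsEffective)
    {S : Scheme.{u}} {R U : Over S} (s t : R ⟶ U)
    [IsEquivalenceRelation s t]
    [Flat s.left] [Surjective s.left] [QuasiCompact s.left]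
    (hc : P (lift t s).left)
    (T : Over S) (σ : QuotSh.rep Scheme.fpqcPrecoverage T ⟶ QuotSh.quot Scheme.fpqcPrecoverage s t) :
    (∃ (Z : Over S) (i : Z ⟶ U ⊗ T), P i.left ∧
      (∀ (T' : Over S) (r : T' ⟶ R ⊗ T),
        (∃ z : T' ⟶ Z, z ≫ i = r ≫ (s ▷ T)) ↔ (∃ z : T' ⟶ Z, z ≫ i = r ≫ (t ▷ T))) ∧
      Flat (i ≫ snd U T).left ∧ Surjective (i ≫ snd U T).left ∧
      QuasiCompact (i ≫ snd U T).left ∧
      (∀ (T' : Over S) (z₁ z₂ : T' ⟶ Z), z₁ ≫ i ≫ snd U T = z₂ ≫ i ≫ snd U T →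
        ∃ r : T' ⟶ R, r ≫ s = z₁ ≫ i ≫ fst U T ∧ r ≫ t = z₂ ≫ i ≫ fst U T) ∧
      QuotSh.repMap Scheme.fpqcPrecoverage (i ≫ fst U T) ≫ QuotSh.quotπ Scheme.fpqcPrecoverage s t =
        QuotSh.repMap Scheme.fpqcPrecoverage (i ≫ snd U T) ≫ σ) ∧
    (∀ (Z Z' : Over S) (i : Z ⟶ U ⊗ T) (i' : Z' ⟶ U ⊗ T),
      P i.left → P i'.left →
      (∀ (T' : Over S) (r : T' ⟶ R ⊗ T),
        (∃ z : T' ⟶ Z, z ≫ i = r ≫ (s ▷ T)) ↔ (∃ z : T' ⟶ Z, z ≫ i = r ≫ (t ▷ T))) →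
      (∀ (T' : Over S) (r : T' ⟶ R ⊗ T),
        (∃ z : T' ⟶ Z', z ≫ i' = r ≫ (s ▷ T)) ↔ (∃ z : T' ⟶ Z', z ≫ i' = r ≫ (t ▷ T))) →
      Flat (i ≫ snd U T).left → Surjective (i ≫ snd U T).left →
      QuasiCompact (i ≫ snd U T).left →
      Flat (i' ≫ snd U T).left → Surjective (i' ≫ snd U T).left →
      QuasiCompact (i' ≫ snd U T).left →
      (∀ (T' : Over S) (z₁ z₂ : T' ⟶ Z), z₁ ≫ i ≫ snd U T = z₂ ≫ i ≫ snd U T →
        ∃ r : T' ⟶ R, r ≫ s = z₁ ≫ i ≫ fst U T ∧ r ≫ t = z₂ ≫ i ≫ fst U T) →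
      (∀ (T' : Over S) (z₁ z₂ : T' ⟶ Z'), z₁ ≫ i' ≫ snd U T = z₂ ≫ i' ≫ snd U T →
        ∃ r : T' ⟶ R, r ≫ s = z₁ ≫ i' ≫ fst U T ∧ r ≫ t = z₂ ≫ i' ≫ fst U T) →
      QuotSh.repMap Scheme.fpqcPrecoverage (i ≫ fst U T) ≫ QuotSh.quotπ Scheme.fpqcPrecoverage s t =
        QuotSh.repMap Scheme.fpqcPrecoverage (i ≫ snd U T) ≫ σ →
      QuotSh.repMap Scheme.fpqcPrecoverage (i' ≫ fst U T) ≫ QuotSh.quotπ Scheme.fpqcPrecoverage s t =
        QuotSh.repMap Scheme.fpqcPrecoverage (i' ≫ snd U T) ≫ σ →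
      ∃ e : Z ≅ Z', e.hom ≫ i' = i) := by
  have hE := Groth.Agent.Helper2.QuotKerPair.isEqvRel_of_isEquivalenceRelation s t
  obtain ⟨σ', hσ'⟩ : ∃ σ' : (yonK Kq).obj T ⟶ QuotSh.quot Kq s t,
    σ' = (QuotSh.repIsoUliftYoneda Kq T).inv ≫ σ := ⟨_, rfl⟩
  constructor
  · obtain ⟨Z, i, hP, hpts, hfl, hsu, hqc⟩ := part1 s t σ' P hPmono heffP hE hc
    obtain ⟨ha, hc', hd⟩ := props_of_pts s t σ' hE i hpts
    refine ⟨Z, i, hP, ha, hfl, hsu, hqc, hc', ?_⟩
    rw [hσ'] at hd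
    exact (d_iff s t σ (i ≫ fst U T) (i ≫ snd U T)).2 hd
  · intro Z Z' i i' hPi hPi' ha ha' hfl hsu hqc hfl' hsu' hqc' _ _ hd hd'
    haveI := hPmono _ hPi
    haveI := hPmono _ hPi'
    have hd1 : Cond s t σ' (i ≫ fst U T) (i ≫ snd U T) := by
      rw [hσ']; exact (d_iff s t σ (i ≫ fst U T) (i ≫ snd U T)).1 hd
    have hd2 : Cond s t σ' (i' ≫ fst U T) (i' ≫ snd U T) := by
      rw [hσ']; exact (d_iff s t σ (i' ≫ fst U T) (i' ≫ snd U T)).1 hd'
    have hpts := pts_of_props s t σ' hE i ha hd1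
    have hpts' := pts_of_props s t σ' hE i' ha' hd2
    obtain ⟨a, ha1⟩ := (hpts' Z i).2 hd1
    obtain ⟨b, hb1⟩ := (hpts Z' i').2 hd2
    have hmi : ∀ {A : Over S} (x y : A ⟶ Z), x ≫ i = y ≫ i → x = y := fun x y h =>
      Over.OverMorphism.ext ((cancel_mono i.left).1 (congrArg (fun m => m.left) h))
    have hmi' : ∀ {A : Over S} (x y : A ⟶ Z'), x ≫ i' = y ≫ i' → x = y := fun x y h =>
      Over.OverMorphism.ext ((cancel_mono i'.left).1 (congrArg (fun m => m.left) h))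
    refine ⟨⟨a, b, hmi _ _ ?_, hmi' _ _ ?_⟩, ha1⟩
    · rw [Category.assoc, hb1, ha1, Category.id_comp]
    · rw [Category.assoc, ha1, hb1, Category.id_comp]

end Groth.Agent.Helper2.QuotPts
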