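import Mathlib
import Groth.Agent.Lib.Helper2.GrpQ.QuotPts4
import Groth.Agent.Lib.Helper2.AlgSt.QuotUniv

/-!
# The fppf quotient sheaf of an equivalence relation with closed graph is an fpqc sheaf (helper2)
-/

set_option backward.isDefEq.respectTransparency.types false
set_option autoImplicit false
set_option synthInstance.maxHeartbeats 400000
set_option maxHeartbeats 4000000
set_option linter.style.haveILetI false
set_option linter.unusedSectionVars false
set_option linter.unusedVariables false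
set_option linter.unusedSimpArgs false
set_option linter.unnecessarySimpa false

namespace Groth.Agent.Helper2.QuotPts
open CategoryTheory CategoryTheory.Limits AlgebraicGeometry Opposite AlgSp Desc
  MonoidalCategory CartesianMonoidalCategory
open Groth.Agent.Helper2.QuotEffK Groth.Agent.Lib.Helper5.DescFam
universe u

/-- the fppf precoverage -/
abbrev Kp : Precoverage Scheme.{u} := Scheme.fppfPrecoverage

section GenK

variable (K : Precoverage Scheme.{u}) {S : Scheme.{u}} [(QuotSh.J K S).Subcanonical]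

theorem app_compK {A : Over S} {F : QuotSh.Sh K S} (m : (yonK K).obj A ⟶ F) {W W' : Over S}
    (g : W' ⟶ W) (a : W ⟶ A) :
    m.hom.app (op W') (ULift.up (g ≫ a)) = F.obj.map g.op (m.hom.app (op W) (ULift.up a)) :=
  NatTrans.naturality_apply m.hom g.op _

theorem hom_ext_appK {Z : Over S} {F : QuotSh.Sh K S} (m₁ m₂ : (yonK K).obj Z ⟶ F)
    (h : m₁.hom.app (op Z) (ULift.up (𝟙 Z)) = m₂.hom.app (op Z) (ULift.up (𝟙 Z))) : m₁ = m₂ := by
  apply Sheaf.hom_ext
  apply NatTrans.ext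
  funext W
  obtain ⟨W⟩ := W
  refine ConcreteCategory.hom_ext _ _ (fun x => ?_)
  obtain ⟨a⟩ := x
  have h1 := app_compK K m₁ a (𝟙 Z)
  have h2 := app_compK K m₂ a (𝟙 Z)
  rw [Category.comp_id] at h1 h2
  rw [h1, h2, h]

variable {R U : Over S} (s t : R ⟶ U)

theorem qπ_conditionK : (yonK K).map s ≫ qπ K s t = (yonK K).map t ≫ qπ K s t := by
  have h1 : (yonK K).map s ≫ qπ K s t =
      (QuotSh.repIsoUliftYoneda K R).inv ≫ QuotSh.repMap K s ≫ QuotSh.quotπ K s t := by
    show (yonK K).map s ≫ (QuotSh.repIsoUliftYoneda K U).inv ≫ QuotSh.quotπ K s t = _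
    rw [← Category.assoc, ← repIso_inv_repMap, Category.assoc]
  have h2 : (yonK K).map t ≫ qπ K s t =
      (QuotSh.repIsoUliftYoneda K R).inv ≫ QuotSh.repMap K t ≫ QuotSh.quotπ K s t := by
    show (yonK K).map t ≫ (QuotSh.repIsoUliftYoneda K U).inv ≫ QuotSh.quotπ K s t = _
    rw [← Category.assoc, ← repIso_inv_repMap, Category.assoc]
  rw [h1, h2, QuotSh.quot_condition]

theorem qπ_app_conditionK {W : Over S} (r : W ⟶ R) :
    (qπ K s t).hom.app (op W) (ULift.up (r ≫ s)) =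
      (qπ K s t).hom.app (op W) (ULift.up (r ≫ t)) :=
  congrArg (fun m : (yonK K).obj R ⟶ QuotSh.quot K s t => m.hom.app (op W) (ULift.up r))
    (qπ_conditionK K s t)

end GenK

section Part1

variable {S : Scheme.{u}} {R U : Over S} (s t : R ⟶ U) {T : Over S}
  (σ' : (yonK Kq).obj T ⟶ QuotSh.quot Kq s t)

/-- variant of `part1` for an arbitrary fpqc-local property of `s` -/
theorem part1' (P : MorphismProperty Scheme.{u}) [IsZariskiLocalAtTarget P]
    [P.IsStableUnderBaseChange] [P.DescendsAlong (@Surjective ⊓ @Flat ⊓ @QuasiCompact)]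
    (hPmono : ∀ ⦃X Y : Scheme.{u}⦄ (f : X ⟶ Y), P f → Mono f)
    (heffP : ∀ {Y₀ : Scheme.{u}} {ι : Type u} {X : ι → Scheme.{u}} (f : ∀ i, X i ⟶ Y₀),
      Presieve.ofArrows X f ∈ Scheme.fpqcPrecoverage Y₀ → ∀ D : SchDDFam f,
      (∀ i, P (D.obj i).hom) → D.IsEffective)
    (hE : IsEqvRel s t) (hc : P (lift t s).left) :
    ∃ (Z : Over S) (i : Z ⟶ U ⊗ T), P i.left ∧
      (∀ (W : Over S) (w : W ⟶ U ⊗ T),
        (∃ z : W ⟶ Z, z ≫ i = w) ↔ Cond s t σ' (w ≫ fst U T) (w ≫ snd U T)) ∧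
      ∀ (P' : MorphismProperty Scheme.{u}) [IsZariskiLocalAtTarget P']
        [P'.IsStableUnderBaseChange] [P'.DescendsAlong (@Surjective ⊓ @Flat ⊓ @QuasiCompact)],
        P' s.left → P' (i ≫ snd U T).left := by
  obtain ⟨ι, Y, c, u, hcov, hu⟩ := exists_lifts s t σ'
  have hfX : Presieve.ofArrows (fun i => Xs U c i) (fun i => fX U c i) ∈
      Scheme.fpqcPrecoverage (U ⊗ T).left := cover_fst c hcov (snd U T).left
  have hPZ : ∀ i, P (Zs s t c u i).hom := fun i => P.pullback_snd _ _ hc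
  haveI : ∀ i, Mono (Zs s t c u i).hom := fun i => hPmono _ (hPZ i)
  have hZ := hZ_app s t σ' c u hE hu
  obtain ⟨Z₀, ι₀, hmono, hpts, hsq⟩ := exists_sub (fun i => fX U c i) (CS s t σ')
    (fun i => Zs s t c u i) hZ hfX (CS_nat s t σ') (CS_loc s t σ') (heffP _ hfX _ hPZ)
  have hPι : P ι₀ := descends_squares P ι₀ (fun i => fX U c i) hfX (fun i => by
    obtain ⟨a, ha⟩ := hsq i
    exact ⟨_, a, _, ha, hPZ i⟩)
  refine ⟨Over.mk (ι₀ ≫ (U ⊗ T).hom), Over.homMk ι₀ rfl, hPι, ?_, ?_⟩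
  · intro W w
    rw [← CS_iff s t σ' w, ← hpts w.left]
    constructor
    · rintro ⟨z, hz⟩
      exact ⟨z.left, congrArg (fun m => m.left) hz⟩
    · rintro ⟨z₀, hz₀⟩
      have hw : w.left ≫ (U ⊗ T).hom = W.hom := Over.w w
      have hz : z₀ ≫ (ι₀ ≫ (U ⊗ T).hom) = W.hom := by
        rw [← Category.assoc, hz₀, hw]
      exact ⟨Over.homMk z₀ hz, Over.OverMorphism.ext hz₀⟩
  · have hsnd : ((Over.homMk ι₀ rfl : Over.mk (ι₀ ≫ (U ⊗ T).hom) ⟶ U ⊗ T) ≫ snd U T).left =
        ι₀ ≫ (snd U T).left := rfl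
    rw [hsnd]
    intro P' _ _ _ hs
    refine descends_squares P' _ c hcov (fun i => ?_)
    obtain ⟨a, ha⟩ := hsq i
    exact ⟨_, a, _, ha.paste_vert (IsPullback.of_hasPullback (snd U T).left (c i)),
      P'.of_isPullback (bsq s t c u i) hs⟩

end Part1

section Sheaf

variable {S : Scheme.{u}}

theorem J_le : QuotSh.J Kp S ≤ QuotSh.J Kq S := by
  intro Y Sv hSv
  have h1 : Sieve.overEquiv Y Sv ∈ Scheme.fppfTopology Y.left :=
    (GrothendieckTopology.mem_over_iff _ Sv).1 hSv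
  exact (GrothendieckTopology.mem_over_iff _ Sv).2
    (Scheme.fppfTopology_le_fpqcTopology Y.left h1)

variable {R U : Over S} (s t : R ⟶ U)

/-- the fpqc quotient sheaf, as an fppf sheaf -/
noncomputable def Fq' : QuotSh.Sh Kp S :=
  ⟨(QuotSh.quot Kq s t).obj, (isSheaf_iff_isSheaf_of_type _ _).2
    (Presieve.isSheaf_of_le _ J_le
      ((isSheaf_iff_isSheaf_of_type _ _).1 (QuotSh.quot Kq s t).property))⟩

/-- the quotient map to the fpqc quotient sheaf, as a map of fppf sheaves -/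
noncomputable def m₁ : (yonK Kp).obj U ⟶ Fq' s t := ObjectProperty.homMk (qπ Kq s t).hom

theorem m₁_app {W : Over S} (a : W ⟶ U) :
    (m₁ s t).hom.app (op W) (ULift.up a) = (qπ Kq s t).hom.app (op W) (ULift.up a) := rfl

theorem m₁_cond : (yonK Kp).map s ≫ m₁ s t = (yonK Kp).map t ≫ m₁ s t := by
  apply hom_ext_appK Kp
  show (qπ Kq s t).hom.app (op R) (ULift.up (𝟙 R ≫ s)) =
    (qπ Kq s t).hom.app (op R) (ULift.up (𝟙 R ≫ t))
  exact qπ_app_condition s t (𝟙 R)

theorem m₀_cond : QuotSh.repMap Kp s ≫ (QuotSh.repIsoUliftYoneda Kp U).hom ≫ m₁ s t =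
    QuotSh.repMap Kp t ≫ (QuotSh.repIsoUliftYoneda Kp U).hom ≫ m₁ s t := by
  rw [← Category.assoc, ← Category.assoc, repMap_repIso, repMap_repIso, Category.assoc,
    Category.assoc, m₁_cond]

/-- the comparison map from the fppf quotient sheaf to the fpqc quotient sheaf -/
noncomputable def theta : QuotSh.quot Kp s t ⟶ Fq' s t :=
  coequalizer.desc ((QuotSh.repIsoUliftYoneda Kp U).hom ≫ m₁ s t) (m₀_cond s t)

theorem qπ_theta : qπ Kp s t ≫ theta s t = m₁ s t := by
  have h1 : QuotSh.quotπ Kp s t ≫ theta s t = (QuotSh.repIsoUliftYoneda Kp U).hom ≫ m₁ s t := by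
    unfold QuotSh.quotπ theta
    exact coequalizer.π_desc _ _
  show ((QuotSh.repIsoUliftYoneda Kp U).inv ≫ QuotSh.quotπ Kp s t) ≫ theta s t = _
  rw [Category.assoc, h1, Iso.inv_hom_id_assoc]

theorem theta_app {W : Over S} (a : W ⟶ U) :
    (theta s t).hom.app (op W) ((qπ Kp s t).hom.app (op W) (ULift.up a)) =
      (qπ Kq s t).hom.app (op W) (ULift.up a) :=
  congrArg (fun m : (yonK Kp).obj U ⟶ Fq' s t => m.hom.app (op W) (ULift.up a)) (qπ_theta s t)

theorem theta_nat {W W' : Over S} (g : W' ⟶ W) (x : (QuotSh.quot Kp s t).obj.obj (op W)) :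
    (theta s t).hom.app (op W') ((QuotSh.quot Kp s t).obj.map g.op x) =
      (QuotSh.quot Kq s t).obj.map g.op ((theta s t).hom.app (op W) x) :=
  NatTrans.naturality_apply (theta s t).hom g.op x

/-- local lifts of sections of the fppf quotient sheaf -/
theorem exists_sieve_lift {T : Over S} (x : (QuotSh.quot Kp s t).obj.obj (op T)) :
    ∃ Sv : Sieve T, Sv ∈ QuotSh.J Kp S T ∧ ∀ ⦃W : Over S⦄ (g : W ⟶ T), Sv g →
      ∃ a : W ⟶ U, (qπ Kp s t).hom.app (op W) (ULift.up a) =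
        (QuotSh.quot Kp s t).obj.map g.op x := by
  haveI : Epi (QuotSh.quotπ Kp s t) := by
    unfold QuotSh.quotπ; exact coequalizer.π_epi
  haveI : Epi (qπ Kp s t) := by
    show Epi ((QuotSh.repIsoUliftYoneda Kp U).inv ≫ QuotSh.quotπ Kp s t)
    infer_instance
  haveI : Sheaf.IsLocallySurjective (qπ Kp s t) :=
    (Sheaf.isLocallySurjective_iff_epi (qπ Kp s t)).mpr inferInstance
  have h2 := (inferInstance : Presheaf.IsLocallySurjective (QuotSh.J Kp S)
    (qπ Kp s t).hom).imageSieve_mem (U := T) x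
  refine ⟨_, h2, fun W g hg => ?_⟩
  obtain ⟨y, hy⟩ := hg
  exact ⟨y.down, hy⟩

theorem theta_injective (hE : IsEqvRel s t) (T : Over S) :
    Function.Injective ((theta s t).hom.app (op T)) := by
  intro x y hxy
  obtain ⟨Sx, hSx, hx⟩ := exists_sieve_lift s t x
  obtain ⟨Sy, hSy, hy⟩ := exists_sieve_lift s t y
  have hS : Sx ⊓ Sy ∈ QuotSh.J Kp S T := (QuotSh.J Kp S).intersection_covering hSx hSy
  have hsh : Presieve.IsSheaf (QuotSh.J Kp S) (QuotSh.quot Kp s t).obj :=
    (isSheaf_iff_isSheaf_of_type _ _).1 (QuotSh.quot Kp s t).property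
  refine (hsh _ hS).isSeparatedFor.ext (fun W g hg => ?_)
  obtain ⟨a, ha⟩ := hx g hg.1
  obtain ⟨b, hb⟩ := hy g hg.2
  have h1 : (qπ Kq s t).hom.app (op W) (ULift.up a) = (qπ Kq s t).hom.app (op W) (ULift.up b) := by
    rw [← theta_app s t a, ← theta_app s t b, ha, hb, theta_nat, theta_nat, hxy]
  obtain ⟨r, hr1, hr2⟩ := rel_of_qπ_app_eq Kq s t hE a b h1
  rw [← ha, ← hb, ← hr1, ← hr2]
  exact (qπ_app_conditionK Kp s t r).symm

theorem theta_surjective (hE : IsEqvRel s t)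
    [Flat s.left] [Surjective s.left] [LocallyOfFinitePresentation s.left]
    (hc : IsClosedImmersion (lift t s).left) (T : Over S) :
    Function.Surjective ((theta s t).hom.app (op T)) := by
  intro ξ
  let eF : ((yonK Kq).obj T ⟶ QuotSh.quot Kq s t) ≃ (QuotSh.quot Kq s t).obj.obj (op T) :=
    (QuotSh.J Kq S).uliftYonedaEquiv
  obtain ⟨σ', hσ'⟩ : ∃ σ' : (yonK Kq).obj T ⟶ QuotSh.quot Kq s t, σ' = eF.symm ξ := ⟨_, rfl⟩
  have hσ'app : ∀ {W : Over S} (b : W ⟶ T), σ'.hom.app (op W) (ULift.up b) =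
      (QuotSh.quot Kq s t).obj.map b.op ξ := by
    intro W b
    rw [hσ']
    rfl
  haveI := Groth.Agent.S0083.result.{u}
  obtain ⟨Z, i, hP, hpts, hb⟩ := part1' s t σ' @IsClosedImmersion
    (fun X Y f hf => by haveI : IsClosedImmersion f := hf; infer_instance)
    (fun f hf D hD => isEffective_of_isClosedImmersion f hf D hD) hE hc
  obtain ⟨-, hex, hd⟩ := props_of_pts s t σ' hE i hpts
  obtain ⟨p, hp⟩ : ∃ p : Z ⟶ T, p = i ≫ snd U T := ⟨_, rfl⟩
  obtain ⟨a, ha⟩ : ∃ a : Z ⟶ U, a = i ≫ fst U T := ⟨_, rfl⟩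
  rw [← hp, ← ha] at hd
  haveI : Flat p.left := by rw [hp]; exact hb @Flat inferInstance
  haveI : Surjective p.left := by rw [hp]; exact hb @Surjective inferInstance
  haveI : LocallyOfFinitePresentation p.left := by
    rw [hp]; exact hb @LocallyOfFinitePresentation inferInstance
  have hpcov : Presieve.ofArrows (fun _ : PUnit.{u + 1} => Z.left) (fun _ => p.left) ∈
      Scheme.fppfPrecoverage T.left := by
    rw [Scheme.fppfPrecoverage, Scheme.ofArrows_mem_precoverage_iff]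
    exact ⟨fun x => ⟨⟨⟩, p.left.surjective x⟩, fun _ => ⟨inferInstance, inferInstance⟩⟩
  have hloc : NonAbH1.IsLocallyTrivialFor Scheme.fppfPrecoverage
      (Over.mk p.left : Over T.left) := by
    refine ⟨_, hpcov, ?_⟩
    rintro S₀ g ⟨j⟩
    show ∃ s' : Z.left ⟶ (Over.mk p.left).left, s' ≫ (Over.mk p.left).hom = p.left
    exact ⟨𝟙 _, Category.id_comp _⟩
  have hm : ∀ {T' : Over S} (e₁ e₂ : T' ⟶ Z), e₁ ≫ p = e₂ ≫ p →
      (QuotSh.quot Kp s t).obj.map e₁.op ((qπ Kp s t).hom.app (op Z) (ULift.up a)) =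
        (QuotSh.quot Kp s t).obj.map e₂.op ((qπ Kp s t).hom.app (op Z) (ULift.up a)) := by
    intro T' e₁ e₂ h
    rw [← app_compK, ← app_compK]
    have h' : e₁ ≫ i ≫ snd U T = e₂ ≫ i ≫ snd U T := by rw [← hp]; exact h
    obtain ⟨r, hr1, hr2⟩ := hex T' e₁ e₂ h'
    rw [ha, ← hr1, ← hr2]
    exact qπ_app_conditionK Kp s t r
  obtain ⟨y, hy, -⟩ := Groth.Agent.Helper2.QuotUniv.existsUnique_desc_section p hloc
    (QuotSh.quot Kp s t) ((qπ Kp s t).hom.app (op Z) (ULift.up a)) hm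
  refine ⟨y, ?_⟩
  refine sec_ext_fam (QuotSh.quot Kq s t) (fun _ : PUnit.{u + 1} => Z) (fun _ => p)
    (Scheme.fppfPrecoverage_le_fpqcPrecoverage _ hpcov) _ _ (fun _ => ?_)
  have h1 : (QuotSh.quot Kq s t).obj.map p.op ((theta s t).hom.app (op T) y) =
      (theta s t).hom.app (op Z) ((QuotSh.quot Kp s t).obj.map p.op y) :=
    (theta_nat s t p y).symm
  have h2 : (qπ Kq s t).hom.app (op Z) (ULift.up a) = σ'.hom.app (op Z) (ULift.up p) := hd
  rw [h1, hy, theta_app, h2, hσ'app]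

/-- The fppf quotient sheaf of an equivalence relation with closed graph is an fpqc sheaf. -/
theorem isSheaf_fpqc_quot_fppf [IsEquivalenceRelation s t]
    [Flat s.left] [Surjective s.left] [LocallyOfFinitePresentation s.left]
    (hc : IsClosedImmersion (lift t s).left) :
    Presheaf.IsSheaf (QuotSh.J Scheme.fpqcPrecoverage S)
      (QuotSh.quot Scheme.fppfPrecoverage s t).obj := by
  have hE := Groth.Agent.Helper2.QuotKerPair.isEqvRel_of_isEquivalenceRelation s t
  haveI : ∀ W, IsIso ((theta s t).hom.app W) := fun W => by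
    obtain ⟨W⟩ := W
    exact (isIso_iff_bijective _).2 ⟨theta_injective s t hE W, theta_surjective s t hE hc W⟩
  haveI : IsIso (theta s t).hom := NatIso.isIso_of_isIso_app _
  exact (Presheaf.isSheaf_of_iso_iff (asIso (theta s t).hom)).2 (QuotSh.quot Kq s t).property

end Sheaf

end Groth.Agent.Helper2.QuotPts
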